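import Mathlib

set_option autoImplicit false

namespace Cfsg.Agent.Lib.helper15.SU3G

open Matrix

section alg
variable {F : Type*} [Field F] (σ : F →+* F)

def Jm : Matrix (Fin 3) (Fin 3) F := !![0, 0, 1; 0, 1, 0; 1, 0, 0]

theorem Jm_mul_Jm : (Jm : Matrix (Fin 3) (Fin 3) F) * Jm = 1 := by
  ext i j
  fin_cases i <;> fin_cases j <;> simp [Jm, Matrix.mul_apply, Fin.sum_univ_three]

theorem Jm_transpose : (Jm : Matrix (Fin 3) (Fin 3) F)ᵀ = Jm := by
  ext i j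
  fin_cases i <;> fin_cases j <;> simp [Jm]

theorem Jm_map : (Jm : Matrix (Fin 3) (Fin 3) F).map σ = Jm := by
  ext i j
  fin_cases i <;> fin_cases j <;> simp [Jm]

theorem Jm_det : (Jm : Matrix (Fin 3) (Fin 3) F).det = -1 := by
  simp [Jm, Matrix.det_fin_three]

def IsJU (M : Matrix (Fin 3) (Fin 3) F) : Prop := Mᵀ * Jm * M.map σ = Jm

theorem isJU_one : IsJU σ (1 : Matrix (Fin 3) (Fin 3) F) := by
  unfold IsJU
  rw [transpose_one, one_mul, Matrix.map_one _ (map_zero σ) (map_one σ), mul_one]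

theorem IsJU.mul {M N : Matrix (Fin 3) (Fin 3) F} (hM : IsJU σ M) (hN : IsJU σ N) :
    IsJU σ (M * N) := by
  unfold IsJU at *
  rw [transpose_mul, Matrix.map_mul]
  calc Nᵀ * Mᵀ * Jm * (M.map σ * N.map σ) = Nᵀ * (Mᵀ * Jm * M.map σ) * N.map σ := by
        simp only [Matrix.mul_assoc]
    _ = Jm := by rw [hM, hN]

theorem IsJU.of_mul_eq_one {M N : Matrix (Fin 3) (Fin 3) F} (hM : IsJU σ M) (h : M * N = 1) :
    IsJU σ N := by
  have h' : N * M = 1 := mul_eq_one_comm.mp h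
  unfold IsJU at *
  have h1 : Nᵀ * Mᵀ = 1 := by rw [← transpose_mul, h, transpose_one]
  have h2 : M.map σ * N.map σ = 1 := by
    rw [← Matrix.map_mul, h, Matrix.map_one _ (map_zero σ) (map_one σ)]
  calc Nᵀ * Jm * N.map σ = Nᵀ * (Mᵀ * Jm * M.map σ) * N.map σ := by rw [hM]
    _ = (Nᵀ * Mᵀ) * Jm * (M.map σ * N.map σ) := by simp only [Matrix.mul_assoc]
    _ = Jm := by rw [h1, h2, one_mul, mul_one]

theorem IsJU.pow {M : Matrix (Fin 3) (Fin 3) F} (hM : IsJU σ M) (k : ℕ) : IsJU σ (M ^ k) := by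
  induction k with
  | zero => rw [pow_zero]; exact isJU_one σ
  | succ k ih => rw [pow_succ]; exact ih.mul σ hM

theorem IsJU.transpose_eq {M : Matrix (Fin 3) (Fin 3) F} (hM : IsJU σ M) :
    (M.map σ)ᵀ * Jm * M = Jm := by
  have := congrArg Matrix.transpose hM
  rw [transpose_mul, transpose_mul, transpose_transpose, Jm_transpose] at this
  rw [Matrix.mul_assoc]
  exact this

def uJ (a b : F) : Matrix (Fin 3) (Fin 3) F := !![1, a, b; 0, 1, -σ a; 0, 0, 1]

theorem uJ_mul (a b a' b' : F) :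
    uJ σ a b * uJ σ a' b' = uJ σ (a + a') (b + b' - a * σ a') := by
  ext i j
  fin_cases i <;> fin_cases j <;> simp [uJ, Matrix.mul_apply, Fin.sum_univ_three] <;> ring

theorem uJ_zero : uJ σ 0 0 = 1 := by
  ext i j
  fin_cases i <;> fin_cases j <;> simp [uJ]

theorem uJ_det (a b : F) : (uJ σ a b).det = 1 := by
  simp [uJ, Matrix.det_fin_three]

theorem uJ_isJU (hσσ : ∀ x, σ (σ x) = x) (a b : F) (h : b + σ b + a * σ a = 0) :
    IsJU σ (uJ σ a b) := by
  unfold IsJU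
  ext i j
  fin_cases i <;> fin_cases j <;>
    simp [uJ, Jm, Matrix.mul_apply, Fin.sum_univ_three, hσσ]
  linear_combination h

theorem uJ_mul_inv (a b : F) (h : b + σ b + a * σ a = 0) :
    uJ σ a b * uJ σ (-a) (σ b) = 1 := by
  rw [uJ_mul, ← uJ_zero σ]
  congr 1
  · ring
  · rw [map_neg]; linear_combination h

theorem uJ_inv_mul (a b : F) (h : b + σ b + a * σ a = 0) :
    uJ σ (-a) (σ b) * uJ σ a b = 1 :=
  mul_eq_one_comm.mp (uJ_mul_inv σ a b h)

theorem uJ_inj {a b a' b' : F} (h : uJ σ a b = uJ σ a' b') : a = a' ∧ b = b' := by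
  have h1 := congrFun (congrFun h 0) 1
  have h2 := congrFun (congrFun h 0) 2
  simp [uJ] at h1 h2
  exact ⟨h1, h2⟩

def Val (a b : F) : Prop := b + σ b + a * σ a = 0

theorem uJ_comm (x bx y by' : F) (hx : Val σ x bx) (hy : Val σ y by') :
    uJ σ x bx * uJ σ y by' * uJ σ (-x) (σ bx) * uJ σ (-y) (σ by') =
      uJ σ 0 (y * σ x - x * σ y) := by
  unfold Val at hx hy
  rw [uJ_mul, uJ_mul, uJ_mul]
  congr 1
  · ring
  · simp only [map_neg]
    linear_combination hx + hy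

def TJ (y : Fin 3 → F) (c : F) : Matrix (Fin 3) (Fin 3) F :=
  1 + c • vecMulVec y (Jm *ᵥ (σ ∘ y))

theorem TJ_e1 (c : F) : TJ σ ![1, 0, 0] c = uJ σ 0 c := by
  ext i j
  fin_cases i <;> fin_cases j <;>
    simp [TJ, uJ, Jm, dotProduct, Fin.sum_univ_three]

theorem TJ_smul (μ : F) (y : Fin 3 → F) (c : F) :
    TJ σ (μ • y) c = TJ σ y (μ * σ μ * c) := by
  unfold TJ
  have h1 : σ ∘ (μ • y) = σ μ • (σ ∘ y) := by
    funext i
    simp
  rw [h1, Matrix.mulVec_smul, smul_vecMulVec, vecMulVec_smul, smul_smul, smul_smul]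
  congr 2
  ring

theorem mul_TJ {M : Matrix (Fin 3) (Fin 3) F} (hM : IsJU σ M) (y : Fin 3 → F) (c : F) :
    M * TJ σ y c = TJ σ (M *ᵥ y) c * M := by
  unfold TJ
  rw [mul_add, add_mul, mul_one, one_mul, Matrix.mul_smul, Matrix.smul_mul, mul_vecMulVec,
    vecMulVec_mul]
  congr 3
  have h1 : σ ∘ (M *ᵥ y) = M.map σ *ᵥ (σ ∘ y) := by
    funext i
    exact RingHom.map_mulVec σ M y i
  rw [h1, ← Matrix.mulVec_transpose, Matrix.mulVec_mulVec, Matrix.mulVec_mulVec]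
  have h2 : Mᵀ * Jm * M.map σ = Jm := hM
  rw [h2]

end alg

end Cfsg.Agent.Lib.helper15.SU3G
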