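import Mathlib
import Cfsg.Prelude.Def_ClassicalGeometry
import Cfsg.Agent.S0279
import Cfsg.Agent.S0779
import Cfsg.Agent.S0780
import Cfsg.Agent.Lib.helper15.SU3G.A1

set_option autoImplicit false

namespace Cfsg.Agent.Lib.helper15.SU3G

open Matrix

section frame
variable {F : Type*} [Field F] (σ : F →+* F)

def Pinv (P : Matrix (Fin 3) (Fin 3) F) : Matrix (Fin 3) (Fin 3) F := Jm * (P.map σ)ᵀ

theorem Pinv_mul (P : Matrix (Fin 3) (Fin 3) F) (hP : Pᵀ * P.map σ = Jm) : Pinv σ P * P = 1 := by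
  have h := congrArg Matrix.transpose hP
  rw [transpose_mul, transpose_transpose, Jm_transpose] at h
  rw [Pinv, Matrix.mul_assoc, h, Jm_mul_Jm]

theorem mul_Pinv (P : Matrix (Fin 3) (Fin 3) F) (hP : Pᵀ * P.map σ = Jm) : P * Pinv σ P = 1 :=
  mul_eq_one_comm.mp (Pinv_mul σ P hP)

theorem map_map_self (hσσ : ∀ x, σ (σ x) = x) (P : Matrix (Fin 3) (Fin 3) F) :
    (P.map σ).map σ = P := by
  ext i j
  simp [hσσ]

theorem conj_unitary (hσσ : ∀ x, σ (σ x) = x) (P : Matrix (Fin 3) (Fin 3) F)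
    (hP : Pᵀ * P.map σ = Jm) (M : Matrix (Fin 3) (Fin 3) F) (hM : IsJU σ M) :
    (P * M * Pinv σ P)ᵀ * (P * M * Pinv σ P).map σ = 1 := by
  have h1 : (Pinv σ P).map σ = Jm * Pᵀ := by
    rw [Pinv, Matrix.map_mul, Jm_map, ← transpose_map, map_map_self σ hσσ]
  have h2 : (Pinv σ P)ᵀ = P.map σ * Jm := by
    rw [Pinv, transpose_mul, transpose_transpose, Jm_transpose]
  have h3 : P.map σ * Jm * Pᵀ = 1 := by
    have := congrArg Matrix.transpose (mul_Pinv σ P hP)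
    rw [Pinv, transpose_mul, transpose_mul, transpose_transpose, Jm_transpose, transpose_one] at this
    exact this
  rw [transpose_mul, transpose_mul, Matrix.map_mul, Matrix.map_mul, h1, h2]
  have hM' : Mᵀ * Jm * M.map σ = Jm := hM
  calc P.map σ * Jm * (Mᵀ * Pᵀ) * (P.map σ * M.map σ * (Jm * Pᵀ))
      = P.map σ * Jm * (Mᵀ * (Pᵀ * P.map σ) * M.map σ) * (Jm * Pᵀ) := by
        simp only [Matrix.mul_assoc]
    _ = P.map σ * Jm * (Jm * Jm) * Pᵀ := by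
        rw [hP, hM']
        simp only [Matrix.mul_assoc]
    _ = 1 := by rw [Jm_mul_Jm, Matrix.mul_one, h3]

theorem conj_det (P : Matrix (Fin 3) (Fin 3) F)
    (hP : Pᵀ * P.map σ = Jm) (M : Matrix (Fin 3) (Fin 3) F) (hd : M.det = 1) :
    (P * M * Pinv σ P).det = 1 := by
  rw [det_mul, det_mul, hd, mul_one, ← det_mul, mul_Pinv σ P hP, det_one]

def Jinv (M : Matrix (Fin 3) (Fin 3) F) : Matrix (Fin 3) (Fin 3) F := Jm * (M.map σ)ᵀ * Jm

theorem Jinv_mul {M : Matrix (Fin 3) (Fin 3) F} (hM : IsJU σ M) : Jinv σ M * M = 1 := by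
  rw [Jinv, Matrix.mul_assoc, Matrix.mul_assoc, ← Matrix.mul_assoc _ Jm M, hM.transpose_eq σ, Jm_mul_Jm]

theorem mul_Jinv {M : Matrix (Fin 3) (Fin 3) F} (hM : IsJU σ M) : M * Jinv σ M = 1 :=
  mul_eq_one_comm.mp (Jinv_mul σ hM)

end frame

section grp
variable {F : Type*} [Field F] {q : ℕ} (σ : F →+* F)

def mkSU (hσ : ∀ x, σ x = x ^ q) (hσσ : ∀ x, σ (σ x) = x) (P : Matrix (Fin 3) (Fin 3) F)
    (hP : Pᵀ * P.map σ = Jm) (M : Matrix (Fin 3) (Fin 3) F) (hM : IsJU σ M) (hd : M.det = 1) :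
    ↥(Cfsg.SU 3 F q) :=
  ⟨⟨P * M * Pinv σ P, conj_det σ P hP M hd⟩,
    (Cfsg.Agent.S0279.mem_SU_iff' σ hσ _).mpr (conj_unitary σ hσσ P hP M hM)⟩

theorem coe_mkSU (hσ : ∀ x, σ x = x ^ q) (hσσ : ∀ x, σ (σ x) = x) (P : Matrix (Fin 3) (Fin 3) F)
    (hP : Pᵀ * P.map σ = Jm) (M : Matrix (Fin 3) (Fin 3) F) (hM : IsJU σ M) (hd : M.det = 1) :
    ((mkSU σ hσ hσσ P hP M hM hd : ↥(Cfsg.SU 3 F q)) : Matrix.SpecialLinearGroup (Fin 3) F).1 =
      P * M * Pinv σ P := rfl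

def InJ (P : Matrix (Fin 3) (Fin 3) F) (H : Subgroup ↥(Cfsg.SU 3 F q))
    (M : Matrix (Fin 3) (Fin 3) F) : Prop :=
  ∃ x ∈ H, ((x : Matrix.SpecialLinearGroup (Fin 3) F) : Matrix (Fin 3) (Fin 3) F) =
    P * M * Pinv σ P

variable {σ}

theorem InJ.mul {P : Matrix (Fin 3) (Fin 3) F} (hP : Pᵀ * P.map σ = Jm)
    {H : Subgroup ↥(Cfsg.SU 3 F q)} {M N : Matrix (Fin 3) (Fin 3) F}
    (hM : InJ σ P H M) (hN : InJ σ P H N) : InJ σ P H (M * N) := by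
  obtain ⟨x, hx, hxM⟩ := hM
  obtain ⟨y, hy, hyN⟩ := hN
  refine ⟨x * y, H.mul_mem hx hy, ?_⟩
  have : ((x * y : ↥(Cfsg.SU 3 F q)) : Matrix.SpecialLinearGroup (Fin 3) F).1 =
      (x : Matrix.SpecialLinearGroup (Fin 3) F).1 * (y : Matrix.SpecialLinearGroup (Fin 3) F).1 := rfl
  rw [this, hxM, hyN]
  calc P * M * Pinv σ P * (P * N * Pinv σ P) = P * M * (Pinv σ P * P) * N * Pinv σ P := by
        simp only [Matrix.mul_assoc]
    _ = P * (M * N) * Pinv σ P := by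
        rw [Pinv_mul σ P hP, Matrix.mul_one]
        simp only [Matrix.mul_assoc]

theorem InJ.one (P : Matrix (Fin 3) (Fin 3) F) (hP : Pᵀ * P.map σ = Jm)
    (H : Subgroup ↥(Cfsg.SU 3 F q)) : InJ σ P H 1 := by
  refine ⟨1, H.one_mem, ?_⟩
  rw [Matrix.mul_one, mul_Pinv σ P hP]
  rfl

theorem InJ.pow {P : Matrix (Fin 3) (Fin 3) F} (hP : Pᵀ * P.map σ = Jm)
    {H : Subgroup ↥(Cfsg.SU 3 F q)} {M : Matrix (Fin 3) (Fin 3) F}
    (hM : InJ σ P H M) (k : ℕ) : InJ σ P H (M ^ k) := by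
  induction k with
  | zero => rw [pow_zero]; exact InJ.one P hP H
  | succ k ih => rw [pow_succ]; exact ih.mul hP hM

theorem InJ.of_mul_eq_one {P : Matrix (Fin 3) (Fin 3) F} (hP : Pᵀ * P.map σ = Jm)
    {H : Subgroup ↥(Cfsg.SU 3 F q)} {M N : Matrix (Fin 3) (Fin 3) F}
    (hM : InJ σ P H M) (h : M * N = 1) : InJ σ P H N := by
  obtain ⟨x, hx, hxM⟩ := hM
  refine ⟨x⁻¹, H.inv_mem hx, ?_⟩
  have h1 : (x : Matrix.SpecialLinearGroup (Fin 3) F).1 *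
      ((x⁻¹ : ↥(Cfsg.SU 3 F q)) : Matrix.SpecialLinearGroup (Fin 3) F).1 = 1 := by
    have : ((x * x⁻¹ : ↥(Cfsg.SU 3 F q)) : Matrix.SpecialLinearGroup (Fin 3) F).1 =
      (x : Matrix.SpecialLinearGroup (Fin 3) F).1 *
        ((x⁻¹ : ↥(Cfsg.SU 3 F q)) : Matrix.SpecialLinearGroup (Fin 3) F).1 := rfl
    rw [← this, mul_inv_cancel]
    rfl
  have h2 : (x : Matrix.SpecialLinearGroup (Fin 3) F).1 * (P * N * Pinv σ P) = 1 := by
    rw [hxM]
    calc P * M * Pinv σ P * (P * N * Pinv σ P) = P * M * (Pinv σ P * P) * N * Pinv σ P := by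
          simp only [Matrix.mul_assoc]
      _ = P * (M * N) * Pinv σ P := by
          rw [Pinv_mul σ P hP, Matrix.mul_one]
          simp only [Matrix.mul_assoc]
      _ = 1 := by rw [h, Matrix.mul_one, mul_Pinv σ P hP]
  have h3 := mul_eq_one_comm.mp h1
  calc ((x⁻¹ : ↥(Cfsg.SU 3 F q)) : Matrix.SpecialLinearGroup (Fin 3) F).1
      = ((x⁻¹ : ↥(Cfsg.SU 3 F q)) : Matrix.SpecialLinearGroup (Fin 3) F).1 *
          ((x : Matrix.SpecialLinearGroup (Fin 3) F).1 * (P * N * Pinv σ P)) := by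
        rw [h2, Matrix.mul_one]
    _ = P * N * Pinv σ P := by rw [← Matrix.mul_assoc, h3, Matrix.one_mul]

theorem InJ.conj {P : Matrix (Fin 3) (Fin 3) F} (hP : Pᵀ * P.map σ = Jm)
    {H : Subgroup ↥(Cfsg.SU 3 F q)} {M N M' : Matrix (Fin 3) (Fin 3) F}
    (hM : InJ σ P H M) (hN : InJ σ P H N) (h : M * M' = 1) : InJ σ P H (M * N * M') :=
  (hM.mul hP hN).mul hP (hM.of_mul_eq_one hP h)

theorem mem_of_InJ {P : Matrix (Fin 3) (Fin 3) F}
    {H : Subgroup ↥(Cfsg.SU 3 F q)} {M : Matrix (Fin 3) (Fin 3) F}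
    (hM : InJ σ P H M) (A : ↥(Cfsg.SU 3 F q))
    (hA : ((A : Matrix.SpecialLinearGroup (Fin 3) F) : Matrix (Fin 3) (Fin 3) F) =
      P * M * Pinv σ P) : A ∈ H := by
  obtain ⟨x, hx, hxM⟩ := hM
  have : A = x := Subtype.ext (Subtype.ext (hA.trans hxM.symm))
  rw [this]
  exact hx

end grp

end Cfsg.Agent.Lib.helper15.SU3G
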