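import Mathlib
import Cfsg.Agent.Lib.helper15.SU3G.A2

set_option autoImplicit false

namespace Cfsg.Agent.Lib.helper15.SU3G

open Matrix

section crit
variable {F : Type*} [Field F] {q : ℕ} (σ : F →+* F)

def isoJ (y : Fin 3 → F) : Prop := y 0 * σ (y 2) + y 1 * σ (y 1) + y 2 * σ (y 0) = 0

theorem uJ_mulVec_e3 (a b : F) : uJ σ a b *ᵥ ![0, 0, 1] = ![b, -σ a, 1] := by
  funext i
  fin_cases i <;> simp [uJ, Matrix.mulVec, dotProduct, Fin.sum_univ_three]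

theorem iso_decomp (hσσ : ∀ x, σ (σ x) = x) (y : Fin 3 → F) (hy : isoJ σ y) (h2 : y 2 ≠ 0) :
    ∃ a b, Val σ a b ∧ y = y 2 • (uJ σ a b *ᵥ ![0, 0, 1]) := by
  have hs2 : σ (y 2) ≠ 0 := by
    intro h
    apply h2
    have := congrArg σ h
    rwa [hσσ, map_zero] at this
  refine ⟨-σ (y 1 / y 2), y 0 / y 2, ?_, ?_⟩
  · unfold Val
    unfold isoJ at hy
    simp only [map_neg, map_div₀, hσσ]
    field_simp
    linear_combination hy
  · rw [uJ_mulVec_e3, map_neg, hσσ]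
    funext i
    fin_cases i
    · simp
      field_simp
    · simp
      field_simp
    · simp

theorem val_smul (hσσ : ∀ x, σ (σ x) = x) (μ c : F) (hc : c + σ c = 0) :
    μ * σ μ * c + σ (μ * σ μ * c) = 0 := by
  rw [map_mul, map_mul, hσσ]
  linear_combination (μ * σ μ) * hc

theorem TJ_conj (M : Matrix (Fin 3) (Fin 3) F) (hMJ : IsJU σ M) (y : Fin 3 → F) (c : F) :
    TJ σ (M *ᵥ y) c = M * TJ σ y c * Jinv σ M := by
  rw [mul_TJ σ hMJ, Matrix.mul_assoc, mul_Jinv σ hMJ, Matrix.mul_one]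

variable {σ}

theorem TJ_conj_mem {P : Matrix (Fin 3) (Fin 3) F} (hP : Pᵀ * P.map σ = Jm)
    {H : Subgroup ↥(Cfsg.SU 3 F q)} {M : Matrix (Fin 3) (Fin 3) F} (hMJ : IsJU σ M)
    (hM : InJ σ P H M) (y : Fin 3 → F) (c : F) (hT : InJ σ P H (TJ σ y c)) :
    InJ σ P H (TJ σ (M *ᵥ y) c) := by
  rw [TJ_conj σ M hMJ]
  exact hM.conj hP hT (mul_Jinv σ hMJ)

theorem all_TJ (hσσ : ∀ x, σ (σ x) = x) {P : Matrix (Fin 3) (Fin 3) F}
    (hP : Pᵀ * P.map σ = Jm) {H : Subgroup ↥(Cfsg.SU 3 F q)}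
    (hU : ∀ a b, Val σ a b → InJ σ P H (uJ σ a b))
    {M : Matrix (Fin 3) (Fin 3) F} (hMJ : IsJU σ M) (hM : InJ σ P H M) (hM31 : M 2 0 ≠ 0)
    (y : Fin 3 → F) (c : F) (hy : isoJ σ y) (hc : c + σ c = 0) : InJ σ P H (TJ σ y c) := by
  have hσ0 : ∀ x : F, σ x = 0 → x = 0 := by
    intro x hx
    have := congrArg σ hx
    rwa [hσσ, map_zero] at this
  have hUJ : ∀ a b, Val σ a b → IsJU σ (uJ σ a b) := fun a b h => uJ_isJU σ hσσ a b h
  have he1 : ∀ c : F, c + σ c = 0 → InJ σ P H (TJ σ ![1, 0, 0] c) := by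
    intro c hc
    rw [TJ_e1]
    apply hU
    unfold Val
    rw [map_zero, mul_zero, add_zero]
    exact hc
  have hy0v : M *ᵥ ![1, 0, 0] = fun i => M i 0 := by
    funext i
    simp [Matrix.mulVec, dotProduct, Fin.sum_univ_three]
  have hy0iso : isoJ σ (M *ᵥ ![1, 0, 0]) := by
    rw [hy0v]
    unfold isoJ
    have h := congrFun (congrFun hMJ 0) 0
    simp [Jm, Matrix.mul_apply, Fin.sum_univ_three] at h
    linear_combination h
  have hy0 : ∀ c : F, c + σ c = 0 → InJ σ P H (TJ σ (M *ᵥ ![1, 0, 0]) c) := fun c hc =>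
    TJ_conj_mem hP hMJ hM _ c (he1 c hc)
  have hy02 : (M *ᵥ ![1, 0, 0]) 2 ≠ 0 := by
    rw [hy0v]
    exact hM31
  obtain ⟨a0, b0, hv0, hd0⟩ := iso_decomp σ hσσ _ hy0iso hy02
  obtain ⟨μ, hμ⟩ : ∃ μ, μ = (M *ᵥ ![1, 0, 0]) 2 := ⟨_, rfl⟩
  rw [← hμ] at hd0 hy02
  have hv0' : Val σ (-a0) (σ b0) := by
    unfold Val at *
    rw [hσσ, map_neg]
    linear_combination hv0
  have he3 : ∀ c : F, c + σ c = 0 → InJ σ P H (TJ σ ![0, 0, 1] c) := by
    intro c hc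
    have h1 : (![0, 0, 1] : Fin 3 → F) =
        μ⁻¹ • (uJ σ (-a0) (σ b0) *ᵥ (M *ᵥ ![1, 0, 0])) := by
      rw [hd0, Matrix.mulVec_smul, Matrix.mulVec_mulVec, uJ_inv_mul σ a0 b0 hv0, Matrix.one_mulVec,
        smul_smul, inv_mul_cancel₀ hy02, one_smul]
    rw [h1, TJ_smul]
    apply TJ_conj_mem hP (hUJ _ _ hv0') (hU _ _ hv0')
    apply hy0
    exact val_smul σ hσσ _ c hc
  by_cases h2 : y 2 = 0
  · have h1 : y 1 = 0 := by
      unfold isoJ at hy
      rw [h2, map_zero, mul_zero, zero_mul, zero_add, add_zero] at hy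
      rcases mul_eq_zero.mp hy with h | h
      · exact h
      · exact hσ0 _ h
    have hy' : y = y 0 • ![1, 0, 0] := by
      funext i
      fin_cases i
      · simp
      · simp [h1]
      · simp [h2]
    rw [hy', TJ_smul]
    apply he1
    exact val_smul σ hσσ _ c hc
  · obtain ⟨a, b, hv, hd⟩ := iso_decomp σ hσσ y hy h2
    rw [hd, TJ_smul]
    apply TJ_conj_mem hP (hUJ _ _ hv) (hU _ _ hv)
    apply he3
    exact val_smul σ hσσ _ c hc

end crit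

section top
variable {F : Type*} [Field F] [Fintype F] {q : ℕ} {σ : F →+* F}

omit [Fintype F] in
theorem utv_eq_conj (hσ : ∀ x, σ x = x ^ q) {P : Matrix (Fin 3) (Fin 3) F}
    (hP : Pᵀ * P.map σ = Jm) (y : Fin 3 → F) (c : F) :
    Cfsg.unitaryTransvection 3 q y c = P * TJ σ (Pinv σ P *ᵥ y) c * Pinv σ P := by
  have hyy : P *ᵥ (Pinv σ P *ᵥ y) = y := by
    rw [Matrix.mulVec_mulVec, mul_Pinv σ P hP, Matrix.one_mulVec]
  unfold Cfsg.unitaryTransvection TJ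
  rw [mul_add, add_mul, mul_one, mul_Pinv σ P hP, Matrix.mul_smul, Matrix.smul_mul,
    mul_vecMulVec, vecMulVec_mul, hyy]
  congr 3
  have h1 : (Jm *ᵥ (σ ∘ (Pinv σ P *ᵥ y))) ᵥ* Pinv σ P = σ ∘ (P *ᵥ (Pinv σ P *ᵥ y)) := by
    have h2 : σ ∘ (P *ᵥ (Pinv σ P *ᵥ y)) = P.map σ *ᵥ (σ ∘ (Pinv σ P *ᵥ y)) := by
      funext i
      exact RingHom.map_mulVec σ P _ i
    rw [h2]
    generalize σ ∘ (Pinv σ P *ᵥ y) = w
    rw [Pinv, ← Matrix.vecMul_vecMul, Matrix.vecMul_transpose]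
    congr 1
    rw [← Matrix.mulVec_transpose, Jm_transpose, Matrix.mulVec_mulVec, Jm_mul_Jm,
      Matrix.one_mulVec]
  rw [h1, hyy]
  funext j
  simp [hσ]

omit [Fintype F] in
theorem isoJ_of_herm (hσ : ∀ x, σ x = x ^ q) {P : Matrix (Fin 3) (Fin 3) F}
    (hP : Pᵀ * P.map σ = Jm) (y : Fin 3 → F) (hy : Cfsg.hermForm 3 F q y y = 0) :
    isoJ σ (Pinv σ P *ᵥ y) := by
  have hyy : P *ᵥ (Pinv σ P *ᵥ y) = y := by
    rw [Matrix.mulVec_mulVec, mul_Pinv σ P hP, Matrix.one_mulVec]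
  have h0 : Cfsg.hermForm 3 F q y y = y ⬝ᵥ (σ ∘ y) := by
    unfold Cfsg.hermForm dotProduct
    apply Finset.sum_congr rfl
    intro i _
    simp [hσ]
  rw [h0] at hy
  have h2 : σ ∘ (P *ᵥ (Pinv σ P *ᵥ y)) = P.map σ *ᵥ (σ ∘ (Pinv σ P *ᵥ y)) := by
    funext i
    exact RingHom.map_mulVec σ P _ i
  rw [← hyy, h2] at hy
  generalize Pinv σ P *ᵥ y = z at hy ⊢
  rw [dotProduct_comm, Matrix.dotProduct_mulVec, Matrix.vecMul_mulVec, ← Matrix.mulVec_transpose,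
    transpose_mul, transpose_transpose] at hy
  rw [hP] at hy
  unfold isoJ
  simp [Jm, Matrix.mulVec, dotProduct, Fin.sum_univ_three] at hy
  linear_combination hy

theorem top_of_UP (hF : Fintype.card F = q ^ 2) (hq2 : q ≠ 2) (hσ : ∀ x, σ x = x ^ q)
    (hσσ : ∀ x, σ (σ x) = x) {P : Matrix (Fin 3) (Fin 3) F}
    (hP : Pᵀ * P.map σ = Jm) {H : Subgroup ↥(Cfsg.SU 3 F q)}
    (hU : ∀ a b, Val σ a b → InJ σ P H (uJ σ a b))
    {M : Matrix (Fin 3) (Fin 3) F} (hMJ : IsJU σ M) (hM : InJ σ P H M) (hM31 : M 2 0 ≠ 0) :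
    H = ⊤ := by
  rw [eq_top_iff, ← Cfsg.Agent.S0780.result hF 3 le_rfl (by rintro ⟨-, h⟩; exact hq2 h),
    Subgroup.closure_le]
  rintro A ⟨y, c, hy, hA⟩
  have hone : ∀ B : ↥(Cfsg.SU 3 F q),
      ((B : Matrix.SpecialLinearGroup (Fin 3) F) : Matrix (Fin 3) (Fin 3) F) = 1 → B ∈ H := by
    intro B hB
    have : B = 1 := Subtype.ext (Subtype.ext hB)
    rw [this]
    exact H.one_mem
  have hq0 : 0 < q := by
    rcases Nat.eq_zero_or_pos q with h | h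
    · exfalso
      rw [h] at hF
      have : 0 < Fintype.card F := Fintype.card_pos
      omega
    · exact h
  by_cases hy0 : y = 0
  · apply hone
    rw [hA, hy0]
    simp [Cfsg.unitaryTransvection]
  · have hiso := (Cfsg.Agent.S0779.result hF 3 y hy0 hy c).mp (by
      intro x y'
      have := (Cfsg.Agent.S0278.mem_SU_iff A.1).mp A.2 x y'
      rwa [hA] at this)
    rcases hiso with hc | hc
    · apply hone
      rw [hA, hc]
      simp [Cfsg.unitaryTransvection]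
    · have hc' : c + σ c = 0 := by
        rw [hσ]
        have : c ^ q = c ^ (q - 1) * c := by
          rw [← pow_succ, Nat.sub_add_cancel hq0]
        rw [this, hc]
        ring
      exact mem_of_InJ (all_TJ hσσ hP hU hMJ hM hM31 _ c (isoJ_of_herm hσ hP y hy) hc') A
        (hA.trans (utv_eq_conj hσ hP y c))

end top

end Cfsg.Agent.Lib.helper15.SU3G
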