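import Mathlib
import Cfsg.Agent.Lib.helper15.RU2
import Cfsg.Agent.Lib.helper15.SU3G.A3

set_option autoImplicit false

namespace Cfsg.Agent.Lib.helper15.SU3G

open Matrix

section upper
variable {F : Type*} [Field F] {q : ℕ} (σ : F →+* F)

theorem Jinv_eq (M : Matrix (Fin 3) (Fin 3) F) : Jinv σ M =
    !![σ (M 2 2), σ (M 1 2), σ (M 0 2); σ (M 2 1), σ (M 1 1), σ (M 0 1);
      σ (M 2 0), σ (M 1 0), σ (M 0 0)] := by
  ext i j
  fin_cases i <;> fin_cases j <;>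
    simp [Jinv, Jm, Matrix.mul_apply, Fin.sum_univ_three, Matrix.vecMul, dotProduct]

theorem shape_uJ {y : Matrix (Fin 3) (Fin 3) F} (hy : IsJU σ y) (hσσ : ∀ x, σ (σ x) = x)
    (h00 : y 0 0 = 1) (h10 : y 1 0 = 0) (h20 : y 2 0 = 0) (h11 : y 1 1 = 1) (h21 : y 2 1 = 0)
    (h22 : y 2 2 = 1) : Val σ (y 0 1) (y 0 2) ∧ y = uJ σ (y 0 1) (y 0 2) := by
  have e12 := congrFun (congrFun hy 1) 2
  have e22 := congrFun (congrFun hy 2) 2
  simp [Jm, Matrix.mul_apply, Fin.sum_univ_three, h11, h21, h22] at e12 e22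
  have h12 : y 1 2 = -σ (y 0 1) := by
    have h := congrArg σ e12
    rw [map_add, hσσ, map_zero] at h
    linear_combination h
  constructor
  · unfold Val
    rw [h12, map_neg, hσσ] at e22
    linear_combination e22
  · ext i j
    fin_cases i <;> fin_cases j <;> simp [uJ, h00, h10, h20, h11, h21, h22, h12]

theorem upper_conj (hσσ : ∀ x, σ (σ x) = x) {x : Matrix (Fin 3) (Fin 3) F} (hx : IsJU σ x)
    (h10 : x 1 0 = 0) (h20 : x 2 0 = 0) (a b : F) (hv : Val σ a b) :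
    ∃ b', Val σ (x 0 0 * σ (x 1 1) * a) b' ∧
      x * uJ σ a b * Jinv σ x = uJ σ (x 0 0 * σ (x 1 1) * a) b' := by
  have e02 := congrFun (congrFun hx 0) 2
  have e01 := congrFun (congrFun hx 0) 1
  have e11 := congrFun (congrFun hx 1) 1
  simp [Jm, Matrix.mul_apply, Fin.sum_univ_three, h10, h20] at e02 e01 e11
  have h00 : x 0 0 ≠ 0 := by
    intro h
    rw [h, zero_mul] at e02
    exact zero_ne_one e02
  have h21 : x 2 1 = 0 := by
    rcases e01 with h | h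
    · exact absurd h h00
    · exact h
  rw [h21, map_zero, mul_zero, zero_mul, zero_add, add_zero] at e11
  have e02' : σ (x 0 0) * x 2 2 = 1 := by
    have := congrArg σ e02
    rwa [map_mul, hσσ, map_one] at this
  have hJ := mul_Jinv σ hx
  have r3 := congrFun (congrFun hJ 0) 1
  rw [Jinv_eq] at r3
  simp [Matrix.mul_apply, Fin.sum_univ_three, h10, h20, h21] at r3
  have hyJ : IsJU σ (x * uJ σ a b * Jinv σ x) :=
    (hx.mul σ (uJ_isJU σ hσσ a b hv)).mul σ (hx.of_mul_eq_one σ hJ)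
  have hshape := shape_uJ σ hyJ hσσ
    (by rw [Jinv_eq]; simp [uJ, Matrix.mul_apply, Fin.sum_univ_three, h10, h20, h21]; exact e02)
    (by rw [Jinv_eq]; simp [uJ, Matrix.mul_apply, Fin.sum_univ_three, h10, h20, h21])
    (by rw [Jinv_eq]; simp [uJ, Matrix.mul_apply, Fin.sum_univ_three, h10, h20, h21])
    (by rw [Jinv_eq]; simp [uJ, Matrix.mul_apply, Fin.sum_univ_three, h10, h20, h21]; exact e11)
    (by rw [Jinv_eq]; simp [uJ, Matrix.mul_apply, Fin.sum_univ_three, h10, h20, h21])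
    (by rw [Jinv_eq]; simp [uJ, Matrix.mul_apply, Fin.sum_univ_three, h10, h20, h21]
        rw [mul_comm]; exact e02')
  have h01 : (x * uJ σ a b * Jinv σ x) 0 1 = x 0 0 * σ (x 1 1) * a := by
    rw [Jinv_eq]
    simp [uJ, Matrix.mul_apply, Fin.sum_univ_three, h10, h20, h21]
    linear_combination r3
  rw [h01] at hshape
  exact ⟨_, hshape.1, hshape.2⟩

end upper

section stab
variable {F : Type*} [Field F] {q : ℕ} {σ : F →+* F}

def Aset (σ : F →+* F) (hσσ : ∀ x, σ (σ x) = x) (P : Matrix (Fin 3) (Fin 3) F)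
    (hP : Pᵀ * P.map σ = Jm) (H : Subgroup ↥(Cfsg.SU 3 F q)) : AddSubgroup F where
  carrier := {a | ∃ b, Val σ a b ∧ InJ σ P H (uJ σ a b)}
  zero_mem' := by
    refine ⟨0, ?_, ?_⟩
    · unfold Val
      simp
    · rw [uJ_zero]
      exact InJ.one P hP H
  add_mem' := by
    rintro a a' ⟨b, hv, hb⟩ ⟨b', hv', hb'⟩
    refine ⟨b + b' - a * σ a', ?_, ?_⟩
    · unfold Val at *
      simp only [map_add, map_sub, map_mul, hσσ]
      linear_combination hv + hv'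
    · rw [← uJ_mul]
      exact hb.mul hP hb'
  neg_mem' := by
    rintro a ⟨b, hv, hb⟩
    refine ⟨σ b, ?_, ?_⟩
    · unfold Val at *
      rw [hσσ, map_neg]
      linear_combination hv
    · exact hb.of_mul_eq_one hP (uJ_mul_inv σ a b hv)

theorem mem_Aset (hσσ : ∀ x, σ (σ x) = x) (P : Matrix (Fin 3) (Fin 3) F)
    (hP : Pᵀ * P.map σ = Jm) (H : Subgroup ↥(Cfsg.SU 3 F q)) (a : F) :
    a ∈ Aset σ hσσ P hP H ↔ ∃ b, Val σ a b ∧ InJ σ P H (uJ σ a b) := Iff.rfl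

theorem stab_of_upper (hσσ : ∀ x, σ (σ x) = x) (P : Matrix (Fin 3) (Fin 3) F)
    (hP : Pᵀ * P.map σ = Jm) (H : Subgroup ↥(Cfsg.SU 3 F q))
    {x : Matrix (Fin 3) (Fin 3) F} (hx : IsJU σ x) (hxH : InJ σ P H x)
    (h10 : x 1 0 = 0) (h20 : x 2 0 = 0) :
    x 0 0 * σ (x 1 1) ∈ Cfsg.Agent.Lib.helper15.RU.stabRing (Aset σ hσσ P hP H) := by
  rintro a ⟨b, hv, hb⟩
  obtain ⟨b', hv', he⟩ := upper_conj σ hσσ hx h10 h20 a b hv
  refine ⟨b', hv', ?_⟩
  rw [← he]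
  exact hxH.conj hP hb (mul_Jinv σ hx)

theorem UP_of_stab (hσσ : ∀ x, σ (σ x) = x) (P : Matrix (Fin 3) (Fin 3) F)
    (hP : Pᵀ * P.map σ = Jm) (H : Subgroup ↥(Cfsg.SU 3 F q))
    (a0 b0 : F) (hv0 : Val σ a0 b0) (ha0 : a0 ≠ 0) (hu : InJ σ P H (uJ σ a0 b0))
    (hst : Cfsg.Agent.Lib.helper15.RU.stabRing (Aset σ hσσ P hP H) = ⊤)
    (θ : F) (hθ : θ + σ θ = 1) :
    ∀ a b, Val σ a b → InJ σ P H (uJ σ a b) := by
  have hA : ∀ a : F, a ∈ Aset σ hσσ P hP H := by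
    intro a
    have h1 : a / a0 ∈ Cfsg.Agent.Lib.helper15.RU.stabRing (Aset σ hσσ P hP H) := by
      rw [hst]
      exact Subring.mem_top _
    have h2 : a0 ∈ Aset σ hσσ P hP H := ⟨b0, hv0, hu⟩
    have := h1 a0 h2
    rwa [div_mul_cancel₀ a ha0] at this
  have hZ : ∀ z : F, z + σ z = 0 → InJ σ P H (uJ σ 0 z) := by
    intro z hz
    obtain ⟨b1, hv1, h1⟩ := hA 1
    obtain ⟨b2, hv2, h2⟩ := hA (z * θ)
    have h1' := h1.of_mul_eq_one hP (uJ_mul_inv σ 1 b1 hv1)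
    have h2' := h2.of_mul_eq_one hP (uJ_mul_inv σ (z * θ) b2 hv2)
    have hc := uJ_comm σ 1 b1 (z * θ) b2 hv1 hv2
    have hz' : z * θ * σ 1 - 1 * σ (z * θ) = z := by
      rw [map_one, map_mul]
      have : σ z = -z := by linear_combination hz
      rw [this]
      linear_combination z * hθ
    rw [hz'] at hc
    rw [← hc]
    exact ((h1.mul hP h2).mul hP h1').mul hP h2'
  intro a b hv
  obtain ⟨b', hv', h'⟩ := hA a
  have h3 : uJ σ a b = uJ σ a b' * uJ σ 0 (b - b') := by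
    rw [uJ_mul]
    congr 1
    · ring
    · rw [map_zero]; ring
  rw [h3]
  apply h'.mul hP
  apply hZ
  unfold Val at hv hv'
  rw [map_sub]
  linear_combination hv - hv'

end stab

end Cfsg.Agent.Lib.helper15.SU3G
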