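import Mathlib
import Cfsg.Agent.Lib.helper15.SU3G.A4

set_option autoImplicit false

namespace Cfsg.Agent.Lib.helper15.SU3G

open Matrix

section fam
variable {F : Type*} [Field F] (σ : F →+* F) (l : F)

def bF : F := (3 * l - 2 - l ^ 3) * l ^ 3 / (l ^ 2 - 1) ^ 3

def sF : Matrix (Fin 3) (Fin 3) F := !![l, 0, 0; 0, (l ^ 2)⁻¹, 0; 0, 0, l]

def tF : Matrix (Fin 3) (Fin 3) F := !![1, 0, 0; 0, 1, 0; -((l ^ 2 - 1) ^ 3 / l ^ 3), 0, 1]

def uF : Matrix (Fin 3) (Fin 3) F := uJ σ 1 (bF l)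

def vF : Matrix (Fin 3) (Fin 3) F := uJ σ (-1) (σ (bF l)) * sF l * tF l

variable {σ} {l}

theorem sigma_bF (hl0 : l ≠ 0) (hD : l ^ 2 - 1 ≠ 0) (hσl : σ l = l⁻¹) :
    σ (bF l) = (2 * l ^ 3 - 3 * l ^ 2 + 1) / (l ^ 2 - 1) ^ 3 := by
  unfold bF
  simp only [map_div₀, map_mul, map_sub, map_pow, map_ofNat, map_one, hσl]
  have h1 : l⁻¹ ^ 2 - 1 = -(l ^ 2 - 1) / l ^ 2 := by
    field_simp
    ring
  rw [h1]
  field_simp
  ring

theorem val_bF (hl0 : l ≠ 0) (hD : l ^ 2 - 1 ≠ 0) (hσl : σ l = l⁻¹) : Val σ 1 (bF l) := by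
  unfold Val
  rw [sigma_bF hl0 hD hσl, map_one]
  unfold bF
  field_simp
  ring

theorem uF_mul_vF (hl0 : l ≠ 0) (hD : l ^ 2 - 1 ≠ 0) (hσl : σ l = l⁻¹) :
    uF σ l * vF σ l = sF l * tF l := by
  unfold uF vF
  rw [← Matrix.mul_assoc, ← Matrix.mul_assoc, uJ_mul_inv σ 1 (bF l) (val_bF hl0 hD hσl), Matrix.one_mul]

theorem sF_tF_comm : sF l * tF l = tF l * sF l := by
  ext i j
  fin_cases i <;> fin_cases j <;> simp [sF, tF, Matrix.mul_apply, Fin.sum_univ_three]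
  ring

theorem sF_pow (k : ℕ) : sF l ^ k = !![l ^ k, 0, 0; 0, ((l ^ 2)⁻¹) ^ k, 0; 0, 0, l ^ k] := by
  induction k with
  | zero =>
    ext i j
    fin_cases i <;> fin_cases j <;> simp
  | succ k ih =>
    rw [pow_succ, ih]
    ext i j
    fin_cases i <;> fin_cases j <;> simp [sF, Matrix.mul_apply, Fin.sum_univ_three, pow_succ]

theorem tF_pow (k : ℕ) :
    tF l ^ k = !![1, 0, 0; 0, 1, 0; -((k : F) * ((l ^ 2 - 1) ^ 3 / l ^ 3)), 0, 1] := by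
  induction k with
  | zero =>
    ext i j
    fin_cases i <;> fin_cases j <;> simp
  | succ k ih =>
    rw [pow_succ, ih]
    ext i j
    fin_cases i <;> fin_cases j <;> simp [tF, Matrix.mul_apply, Fin.sum_univ_three]
    ring

theorem sF_isJU (hl0 : l ≠ 0) (hσl : σ l = l⁻¹) : IsJU σ (sF l) := by
  unfold IsJU
  ext i j
  fin_cases i <;> fin_cases j <;>
    simp [sF, Jm, Matrix.mul_apply, Fin.sum_univ_three, hσl, hl0]

theorem tF_isJU (hl0 : l ≠ 0) (hσl : σ l = l⁻¹) : IsJU σ (tF l) := by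
  unfold IsJU
  ext i j
  fin_cases i <;> fin_cases j <;>
    simp [tF, Jm, Matrix.mul_apply, Fin.sum_univ_three, hσl, hl0]
  field_simp
  ring

end fam

end Cfsg.Agent.Lib.helper15.SU3G
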