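import Mathlib
import Cfsg.Agent.Lib.helper15.SU3G.A5

set_option autoImplicit false

namespace Cfsg.Agent.Lib.helper15.SU3G

open Matrix

section conj
variable {F : Type*} [Field F] (σ : F →+* F) (l : F)

def GiF : Matrix (Fin 3) (Fin 3) F := !![-1, -(bF l), 0; 0, -1, 0; 0, 0, 1]

def Sh : Matrix (Fin 3) (Fin 3) F := !![1, 1, 0; 0, 1, 1; 0, 0, 1]

def G0F : Matrix (Fin 3) (Fin 3) F :=
  !![-((l - 1) / (l ^ 2 - 1)), 1 / (l ^ 2 - 1), 0;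
     -(l ^ 2 - 1), 1, -(l ^ 2 / (l ^ 2 - 1));
     -((l ^ 2 - 1) ^ 2 / l ^ 2), 0, 0]

def G0sF : Matrix (Fin 3) (Fin 3) F :=
  !![-(l * (l - 1) / (l ^ 2 - 1)), -(l ^ 2 / (l ^ 2 - 1)), 0;
     (l ^ 2 - 1) / l ^ 2, 1, 1 / (l ^ 2 - 1);
     -((l ^ 2 - 1) ^ 2 / l ^ 2), 0, 0]

def CF (β γ : F) : Matrix (Fin 3) (Fin 3) F := !![1, β, γ; 0, 1, β; 0, 0, 1]

def Gam0 : Matrix (Fin 3) (Fin 3) F :=
  !![0, 0, -1; 0, 1, 1 / (l ^ 2 - 1); -1, -(l ^ 2 / (l ^ 2 - 1)), -(l ^ 2 / (l ^ 2 - 1) ^ 2)]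

def GamU : Matrix (Fin 3) (Fin 3) F :=
  !![0, 0, -1; 0, 1, bF l; -1, σ (bF l), 0]

variable {σ} {l}

theorem GiF_mul_uF : GiF l * uF σ l = Sh * GiF l := by
  ext i j
  fin_cases i <;> fin_cases j <;>
    simp [GiF, uF, uJ, Sh, Matrix.mul_apply, Fin.sum_univ_three]
  ring

theorem CF_mul_Sh (β γ : F) : CF β γ * Sh = Sh * CF β γ := by
  ext i j
  fin_cases i <;> fin_cases j <;>
    simp [CF, Sh, Matrix.mul_apply, Fin.sum_univ_three]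
  all_goals ring

theorem vF_eq (hl0 : l ≠ 0) (hD : l ^ 2 - 1 ≠ 0) (hσl : σ l = l⁻¹) :
    vF σ l = !![3 - l - (l ^ 2)⁻¹, -(l ^ 2)⁻¹, l * ((2 * l ^ 3 - 3 * l ^ 2 + 1) / (l ^ 2 - 1) ^ 3);
      -((l ^ 2 - 1) ^ 3 / l ^ 2), (l ^ 2)⁻¹, l;
      -((l ^ 2 - 1) ^ 3 / l ^ 2), 0, l] := by
  unfold vF
  rw [sigma_bF hl0 hD hσl]
  ext i j
  fin_cases i <;> fin_cases j <;>
    simp [uJ, sF, tF, Matrix.mul_apply, Fin.sum_univ_three] <;> field_simp <;> ring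

theorem vF_mul_G0F (hl0 : l ≠ 0) (hD : l ^ 2 - 1 ≠ 0) (hσl : σ l = l⁻¹) :
    vF σ l * G0F l = G0F l * Sh := by
  rw [vF_eq hl0 hD hσl]
  ext i j
  fin_cases i <;> fin_cases j <;>
    simp [G0F, Sh, Matrix.mul_apply, Fin.sum_univ_three] <;> field_simp <;> ring

theorem G0F_map (hl0 : l ≠ 0) (hD : l ^ 2 - 1 ≠ 0) (hσl : σ l = l⁻¹) :
    (G0F l).map σ = G0sF l := by
  have hD2 : 1 - l ^ 2 ≠ 0 := fun h => hD (by linear_combination -h)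
  ext i j
  fin_cases i <;> fin_cases j <;>
    simp [G0F, G0sF, hσl] <;> field_simp <;> ring

theorem gram_G0F (hl0 : l ≠ 0) (hD : l ^ 2 - 1 ≠ 0) (hσl : σ l = l⁻¹) :
    (G0F l)ᵀ * Jm * (G0F l).map σ = Gam0 l := by
  rw [G0F_map hl0 hD hσl]
  ext i j
  fin_cases i <;> fin_cases j <;>
    simp [G0F, G0sF, Gam0, Jm, Matrix.mul_apply, Fin.sum_univ_three] <;> field_simp <;> ring

theorem gram_CF (hD : l ^ 2 - 1 ≠ 0) (hv : Val σ 1 (bF l)) (β γ : F)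
    (hβ : β - σ β = 1 / (l ^ 2 - 1) - bF l)
    (hγ : γ + σ γ = -(l ^ 2 / (l ^ 2 - 1) ^ 2) + β * (1 / (l ^ 2 - 1)) +
      σ β * (-(l ^ 2 / (l ^ 2 - 1))) + β * σ β) :
    (CF β γ)ᵀ * Gam0 l * (CF β γ).map σ = GamU σ l := by
  have h0 : 1 / (l ^ 2 - 1) + -(l ^ 2 / (l ^ 2 - 1)) = -1 := by
    field_simp
    ring
  unfold Val at hv
  rw [map_one, mul_one] at hv
  ext i j
  fin_cases i <;> fin_cases j <;>
    simp [CF, Gam0, GamU, Matrix.mul_apply, Fin.sum_univ_three]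
  · linear_combination -hβ
  · linear_combination hβ - hv + h0
  · linear_combination -hγ

theorem gram_GiF : (GiF l)ᵀ * GamU σ l * (GiF l).map σ = Jm := by
  ext i j
  fin_cases i <;> fin_cases j <;>
    simp [GiF, GamU, Jm, Matrix.mul_apply, Fin.sum_univ_three]

theorem det_G0F (hl0 : l ≠ 0) (hD : l ^ 2 - 1 ≠ 0) : (G0F l).det = 1 := by
  simp [G0F, Matrix.det_fin_three]
  field_simp

theorem det_CF (β γ : F) : (CF β γ).det = 1 := by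
  simp [CF, Matrix.det_fin_three]

theorem det_GiF : (GiF l).det = 1 := by
  simp [GiF, Matrix.det_fin_three]

end conj

section conj2
variable {F : Type*} [Field F] (σ : F →+* F) (l : F)

def tauF : F := l ^ 2 / (l ^ 2 - 1)

def bpF : F := (1 / (l ^ 2 - 1) - bF l) * tauF l

def rhoF : F := -(l ^ 2 / (l ^ 2 - 1) ^ 2) + bpF l * (1 / (l ^ 2 - 1)) +
      σ (bpF l) * (-(l ^ 2 / (l ^ 2 - 1))) + bpF l * σ (bpF l)

def gpF : F := rhoF σ l * tauF l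

def gF : Matrix (Fin 3) (Fin 3) F := G0F l * CF (bpF l) (gpF σ l) * GiF l

variable {σ} {l}

theorem sigma_inv_D (hl0 : l ≠ 0) (hD : l ^ 2 - 1 ≠ 0) (hσl : σ l = l⁻¹) :
    σ (1 / (l ^ 2 - 1)) = -(l ^ 2 / (l ^ 2 - 1)) := by
  have hD2 : 1 - l ^ 2 ≠ 0 := fun h => hD (by linear_combination -h)
  simp only [map_div₀, map_sub, map_pow, map_one, hσl]
  field_simp
  ring

theorem sigma_tauF (hl0 : l ≠ 0) (hD : l ^ 2 - 1 ≠ 0) (hσl : σ l = l⁻¹) :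
    σ (tauF l) = -(1 / (l ^ 2 - 1)) := by
  have hD2 : 1 - l ^ 2 ≠ 0 := fun h => hD (by linear_combination -h)
  unfold tauF
  simp only [map_div₀, map_sub, map_pow, map_one, hσl]
  field_simp
  ring

theorem tauF_add (hl0 : l ≠ 0) (hD : l ^ 2 - 1 ≠ 0) (hσl : σ l = l⁻¹) :
    tauF l + σ (tauF l) = 1 := by
  rw [sigma_tauF hl0 hD hσl]
  unfold tauF
  field_simp
  ring

theorem bpF_rel (hl0 : l ≠ 0) (hD : l ^ 2 - 1 ≠ 0) (hσl : σ l = l⁻¹) :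
    bpF l - σ (bpF l) = 1 / (l ^ 2 - 1) - bF l := by
  have hv := val_bF hl0 hD hσl
  unfold Val at hv
  rw [map_one, mul_one] at hv
  have hτ := tauF_add hl0 hD hσl
  have h0 : 1 / (l ^ 2 - 1) + -(l ^ 2 / (l ^ 2 - 1)) = -1 := by
    field_simp
    ring
  unfold bpF
  rw [map_mul, map_sub, sigma_inv_D hl0 hD hσl]
  linear_combination (1 / (l ^ 2 - 1) - bF l) * hτ - σ (tauF l) * (h0 - hv)

theorem sigma_rhoF (hσσ : ∀ x, σ (σ x) = x) (hl0 : l ≠ 0) (hD : l ^ 2 - 1 ≠ 0)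
    (hσl : σ l = l⁻¹) : σ (rhoF σ l) = rhoF σ l := by
  have hD2 : 1 - l ^ 2 ≠ 0 := fun h => hD (by linear_combination -h)
  have h1 : σ (-(l ^ 2 / (l ^ 2 - 1) ^ 2)) = -(l ^ 2 / (l ^ 2 - 1) ^ 2) := by
    simp only [map_neg, map_div₀, map_sub, map_pow, map_one, hσl]
    field_simp
    ring
  have h2 : σ (-(l ^ 2 / (l ^ 2 - 1))) = 1 / (l ^ 2 - 1) := by
    rw [← sigma_inv_D hl0 hD hσl, hσσ]
  unfold rhoF
  rw [map_add, map_add, map_add, h1, map_mul, map_mul, map_mul, hσσ, h2,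
    sigma_inv_D hl0 hD hσl]
  ring

theorem gpF_rel (hσσ : ∀ x, σ (σ x) = x) (hl0 : l ≠ 0) (hD : l ^ 2 - 1 ≠ 0)
    (hσl : σ l = l⁻¹) : gpF σ l + σ (gpF σ l) = rhoF σ l := by
  unfold gpF
  rw [map_mul, sigma_rhoF hσσ hl0 hD hσl]
  linear_combination rhoF σ l * tauF_add hl0 hD hσl

theorem gF_mul_uF (hl0 : l ≠ 0) (hD : l ^ 2 - 1 ≠ 0) (hσl : σ l = l⁻¹) :
    gF σ l * uF σ l = vF σ l * gF σ l := by
  unfold gF
  calc G0F l * CF (bpF l) (gpF σ l) * GiF l * uF σ l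
      = G0F l * CF (bpF l) (gpF σ l) * (GiF l * uF σ l) := by simp only [Matrix.mul_assoc]
    _ = G0F l * (CF (bpF l) (gpF σ l) * Sh) * GiF l := by
        rw [GiF_mul_uF]; simp only [Matrix.mul_assoc]
    _ = (G0F l * Sh) * CF (bpF l) (gpF σ l) * GiF l := by
        rw [CF_mul_Sh]; simp only [Matrix.mul_assoc]
    _ = vF σ l * (G0F l * CF (bpF l) (gpF σ l) * GiF l) := by
        rw [← vF_mul_G0F hl0 hD hσl]; simp only [Matrix.mul_assoc]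

theorem gF_isJU (hσσ : ∀ x, σ (σ x) = x) (hl0 : l ≠ 0) (hD : l ^ 2 - 1 ≠ 0)
    (hσl : σ l = l⁻¹) : IsJU σ (gF σ l) := by
  unfold IsJU gF
  rw [transpose_mul, transpose_mul, Matrix.map_mul, Matrix.map_mul]
  calc (GiF l)ᵀ * ((CF (bpF l) (gpF σ l))ᵀ * (G0F l)ᵀ) * Jm *
        ((G0F l).map σ * (CF (bpF l) (gpF σ l)).map σ * (GiF l).map σ)
      = (GiF l)ᵀ * ((CF (bpF l) (gpF σ l))ᵀ * ((G0F l)ᵀ * Jm * (G0F l).map σ) *
          (CF (bpF l) (gpF σ l)).map σ) * (GiF l).map σ := by simp only [Matrix.mul_assoc]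
    _ = Jm := by
        rw [gram_G0F hl0 hD hσl, gram_CF hD (val_bF hl0 hD hσl) _ _ (bpF_rel hl0 hD hσl)
          (gpF_rel hσσ hl0 hD hσl), gram_GiF]

theorem gF_det (hl0 : l ≠ 0) (hD : l ^ 2 - 1 ≠ 0) : (gF σ l).det = 1 := by
  unfold gF
  rw [det_mul, det_mul, det_G0F hl0 hD, det_CF, det_GiF]
  ring

end conj2

end Cfsg.Agent.Lib.helper15.SU3G
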