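import Mathlib
import Cfsg.Agent.Lib.helper15.SU3InvG
import Cfsg.Agent.Lib.helper15.SU3G.A6

set_option autoImplicit false

namespace Cfsg.Agent.Lib.helper15.SU3G

open Matrix

section setup
variable {F : Type*} [Field F] [Fintype F] {q : ℕ}

theorem exists_lam (hF : Fintype.card F = q ^ 2) (hq : 2 ≤ q) : ∃ l : F, orderOf l = q + 1 := by
  classical
  obtain ⟨g, hg⟩ := IsCyclic.exists_generator (α := Fˣ)
  have hord : orderOf g = q ^ 2 - 1 := by
    rw [orderOf_eq_card_of_forall_mem_zpowers hg, Nat.card_eq_fintype_card, Fintype.card_units, hF]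
  have hfac : q ^ 2 - 1 = (q - 1) * (q + 1) := by
    obtain ⟨k, rfl⟩ : ∃ k, q = k + 1 := ⟨q - 1, by omega⟩
    simp only [Nat.add_sub_cancel]
    have : (k + 1) ^ 2 = k * (k + 1 + 1) + 1 := by ring
    rw [this, Nat.add_sub_cancel]
  refine ⟨((g ^ (q - 1) : Fˣ) : F), ?_⟩
  rw [orderOf_units, orderOf_pow_of_dvd (by omega) (by rw [hord, hfac]; exact Dvd.intro _ rfl),
    hord, hfac]
  exact Nat.mul_div_cancel_left _ (by omega)

omit [Fintype F] in
theorem lam_facts (hq : 3 ≤ q) {σ : F →+* F} (hσ : ∀ x, σ x = x ^ q) {l : F}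
    (hl : orderOf l = q + 1) : l ≠ 0 ∧ l ^ 2 - 1 ≠ 0 ∧ σ l = l⁻¹ := by
  have h1 : l ^ (q + 1) = 1 := by
    rw [← hl]
    exact pow_orderOf_eq_one l
  have hl0 : l ≠ 0 := by
    intro h
    rw [h, zero_pow (by omega)] at h1
    exact zero_ne_one h1
  refine ⟨hl0, ?_, ?_⟩
  · intro h
    have h2 : l ^ 2 = 1 := by linear_combination h
    have := orderOf_dvd_of_pow_eq_one h2
    rw [hl] at this
    have := Nat.le_of_dvd (by omega) this
    omega
  · rw [hσ]
    apply eq_inv_of_mul_eq_one_left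
    rw [← pow_succ]
    exact h1

theorem sigma_sigma (hF : Fintype.card F = q ^ 2) {σ : F →+* F} (hσ : ∀ x, σ x = x ^ q) (x : F) :
    σ (σ x) = x := by
  rw [hσ, hσ, ← pow_mul, ← sq, ← hF, FiniteField.pow_card]

theorem exists_frame (hF : Fintype.card F = q ^ 2) {σ : F →+* F} (hσ : ∀ x, σ x = x ^ q)
    {l : F} (hl0 : l ≠ 0) (hD : l ^ 2 - 1 ≠ 0) (hσl : σ l = l⁻¹) :
    ∃ P : Matrix (Fin 3) (Fin 3) F, Pᵀ * P.map σ = Jm := by
  have hσσ := sigma_sigma hF hσ
  obtain ⟨ζ, hζ⟩ := Cfsg.Agent.Lib.helper15.SU3Inv.norm_surj hF σ hσ (-1 : F)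
    (neg_ne_zero.mpr one_ne_zero) (by rw [map_neg, map_one])
  have h1 : 1 - l ≠ 0 := by
    intro h
    apply hD
    have : l = 1 := by linear_combination -h
    rw [this]
    ring
  have h2 : l - 1 ≠ 0 := fun h => h1 (by linear_combination -h)
  refine ⟨!![1, 0, 1 / (1 - l); 0, 1, 0; ζ, 0, 1 / (1 - l) * ζ * l], ?_⟩
  ext i j
  fin_cases i <;> fin_cases j <;>
    simp [Jm, Matrix.mul_apply, Fin.sum_univ_three, hσl]
  · linear_combination hζ
  · field_simp
    linear_combination (1 : F) * hζ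
  · field_simp
    linear_combination l * hζ
  · field_simp
    linear_combination l * hζ

end setup

end Cfsg.Agent.Lib.helper15.SU3G
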