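import Mathlib
import Cfsg.Agent.Lib.helper15.SU3G.A7

set_option autoImplicit false

namespace Cfsg.Agent.Lib.helper15.SU3G

open Matrix

section pre
variable {F : Type*} [Field F] {q : ℕ}

theorem conj_pow_eq {σ : F →+* F} {P : Matrix (Fin 3) (Fin 3) F} (hP : Pᵀ * P.map σ = Jm)
    (N : Matrix (Fin 3) (Fin 3) F) (k : ℕ) :
    (P * N * Pinv σ P) ^ k = P * N ^ k * Pinv σ P := by
  induction k with
  | zero => rw [pow_zero, pow_zero, Matrix.mul_one, mul_Pinv σ P hP]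
  | succ k ih =>
    rw [pow_succ, ih, pow_succ]
    calc P * N ^ k * Pinv σ P * (P * N * Pinv σ P)
        = P * N ^ k * (Pinv σ P * P) * N * Pinv σ P := by simp only [Matrix.mul_assoc]
      _ = P * (N ^ k * N) * Pinv σ P := by
          rw [Pinv_mul σ P hP, Matrix.mul_one]; simp only [Matrix.mul_assoc]

theorem uF_sub_one_pow_three (σ : F →+* F) (l : F) : (uF σ l - 1) ^ 3 = 0 := by
  have h : uF σ l - 1 = !![0, 1, bF l; 0, 0, -1; 0, 0, 0] := by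
    ext i j
    fin_cases i <;> fin_cases j <;> simp [uF, uJ]
  rw [h, pow_succ, pow_two]
  ext i j
  fin_cases i <;> fin_cases j <;> simp [Matrix.mul_apply, Fin.sum_univ_three]

theorem uF_sub_one_sq (σ : F →+* F) (l : F) : (uF σ l - 1) ^ 2 ≠ 0 := by
  have h : uF σ l - 1 = !![0, 1, bF l; 0, 0, -1; 0, 0, 0] := by
    ext i j
    fin_cases i <;> fin_cases j <;> simp [uF, uJ]
  rw [h, pow_two]
  intro h0
  have := congrFun (congrFun h0 0) 2
  simp [Matrix.mul_apply, Fin.sum_univ_three] at this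

theorem vF_isJU {σ : F →+* F} (hσσ : ∀ x, σ (σ x) = x) {l : F} (hl0 : l ≠ 0)
    (hD : l ^ 2 - 1 ≠ 0) (hσl : σ l = l⁻¹) : IsJU σ (vF σ l) := by
  unfold vF
  refine ((uJ_isJU σ hσσ _ _ ?_).mul σ (sF_isJU hl0 hσl)).mul σ (tF_isJU hl0 hσl)
  have hv := val_bF hl0 hD hσl
  unfold Val at hv
  rw [hσσ, map_neg, map_one]
  rw [map_one] at hv
  linear_combination hv

theorem vF_det {σ : F →+* F} {l : F} (hl0 : l ≠ 0) : (vF σ l).det = 1 := by
  unfold vF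
  rw [det_mul, det_mul, uJ_det]
  simp [sF, tF, Matrix.det_fin_three]
  field_simp

end pre

section main
variable {F : Type*} [Field F] [Fintype F] {q : ℕ}

theorem main_of_stab (hF : Fintype.card F = q ^ 2) (hq : 3 ≤ q) {σ : F →+* F}
    (hσ : ∀ x, σ x = x ^ q) (hσσ : ∀ x, σ (σ x) = x) {l : F} (hl0 : l ≠ 0)
    (hD : l ^ 2 - 1 ≠ 0) (hσl : σ l = l⁻¹) {P : Matrix (Fin 3) (Fin 3) F}
    (hP : Pᵀ * P.map σ = Jm)
    (hst : ∀ H : Subgroup ↥(Cfsg.SU 3 F q), InJ σ P H (uF σ l) → InJ σ P H (vF σ l) →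
      Cfsg.Agent.Lib.helper15.RU.stabRing (Aset σ hσσ P hP H) = ⊤) :
    ∃ u g : ↥(Cfsg.SU 3 F q),
      (IsNilpotent (((u : Matrix.SpecialLinearGroup (Fin 3) F) : Matrix (Fin 3) (Fin 3) F) - 1) ∧
        (((u : Matrix.SpecialLinearGroup (Fin 3) F) : Matrix (Fin 3) (Fin 3) F) - 1) ^ (3 - 1) ≠ 0) ∧
      Subgroup.closure ({u, g * u * g⁻¹} : Set ↥(Cfsg.SU 3 F q)) = ⊤ := by
  have hvb := val_bF hl0 hD hσl
  have hu : IsJU σ (uF σ l) := uJ_isJU σ hσσ 1 _ hvb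
  have hud : (uF σ l).det = 1 := uJ_det σ 1 _
  have hg : IsJU σ (gF σ l) := gF_isJU hσσ hl0 hD hσl
  have hgd : (gF σ l).det = 1 := gF_det hl0 hD
  have hv : IsJU σ (vF σ l) := vF_isJU hσσ hl0 hD hσl
  have hvd : (vF σ l).det = 1 := vF_det hl0
  obtain ⟨u, hu'⟩ : ∃ u, u = mkSU σ hσ hσσ P hP (uF σ l) hu hud := ⟨_, rfl⟩
  obtain ⟨g, hg'⟩ : ∃ g, g = mkSU σ hσ hσσ P hP (gF σ l) hg hgd := ⟨_, rfl⟩
  obtain ⟨v, hv'⟩ : ∃ v, v = mkSU σ hσ hσσ P hP (vF σ l) hv hvd := ⟨_, rfl⟩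
  have hum : ((u : Matrix.SpecialLinearGroup (Fin 3) F) : Matrix (Fin 3) (Fin 3) F) =
      P * uF σ l * Pinv σ P := by rw [hu']; rfl
  have hgm : ((g : Matrix.SpecialLinearGroup (Fin 3) F) : Matrix (Fin 3) (Fin 3) F) =
      P * gF σ l * Pinv σ P := by rw [hg']; rfl
  have hvm : ((v : Matrix.SpecialLinearGroup (Fin 3) F) : Matrix (Fin 3) (Fin 3) F) =
      P * vF σ l * Pinv σ P := by rw [hv']; rfl
  have hconj : g * u * g⁻¹ = v := by
    rw [mul_inv_eq_iff_eq_mul]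
    apply Subtype.ext
    apply Subtype.ext
    show ((g : Matrix.SpecialLinearGroup (Fin 3) F) : Matrix (Fin 3) (Fin 3) F) *
        ((u : Matrix.SpecialLinearGroup (Fin 3) F) : Matrix (Fin 3) (Fin 3) F) =
      ((v : Matrix.SpecialLinearGroup (Fin 3) F) : Matrix (Fin 3) (Fin 3) F) *
        ((g : Matrix.SpecialLinearGroup (Fin 3) F) : Matrix (Fin 3) (Fin 3) F)
    rw [hum, hgm, hvm]
    calc P * gF σ l * Pinv σ P * (P * uF σ l * Pinv σ P)
        = P * gF σ l * (Pinv σ P * P) * uF σ l * Pinv σ P := by simp only [Matrix.mul_assoc]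
      _ = P * (gF σ l * uF σ l) * Pinv σ P := by
          rw [Pinv_mul σ P hP, Matrix.mul_one]; simp only [Matrix.mul_assoc]
      _ = P * (vF σ l * gF σ l) * Pinv σ P := by rw [gF_mul_uF hl0 hD hσl]
      _ = P * vF σ l * (Pinv σ P * P) * gF σ l * Pinv σ P := by
          rw [Pinv_mul σ P hP, Matrix.mul_one]; simp only [Matrix.mul_assoc]
      _ = P * vF σ l * Pinv σ P * (P * gF σ l * Pinv σ P) := by simp only [Matrix.mul_assoc]
  have hsub : ((u : Matrix.SpecialLinearGroup (Fin 3) F) : Matrix (Fin 3) (Fin 3) F) - 1 =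
      P * (uF σ l - 1) * Pinv σ P := by
    rw [hum, mul_sub, sub_mul, Matrix.mul_one, mul_Pinv σ P hP]
  refine ⟨u, g, ⟨?_, ?_⟩, ?_⟩
  · refine ⟨3, ?_⟩
    rw [hsub, conj_pow_eq hP, uF_sub_one_pow_three, Matrix.mul_zero, Matrix.zero_mul]
  · rw [hsub, conj_pow_eq hP]
    intro h0
    apply uF_sub_one_sq σ l
    have h1 : Pinv σ P * (P * (uF σ l - 1) ^ (3 - 1) * Pinv σ P) * P = 0 := by
      rw [h0, Matrix.mul_zero, Matrix.zero_mul]
    have h2 : Pinv σ P * (P * (uF σ l - 1) ^ (3 - 1) * Pinv σ P) * P =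
        (Pinv σ P * P) * (uF σ l - 1) ^ (3 - 1) * (Pinv σ P * P) := by
      simp only [Matrix.mul_assoc]
    rw [h2, Pinv_mul σ P hP, Matrix.one_mul, Matrix.mul_one] at h1
    exact h1
  · rw [hconj]
    have hHu : InJ σ P (Subgroup.closure ({u, v} : Set ↥(Cfsg.SU 3 F q))) (uF σ l) :=
      ⟨u, Subgroup.subset_closure (by simp), hum⟩
    have hHv : InJ σ P (Subgroup.closure ({u, v} : Set ↥(Cfsg.SU 3 F q))) (vF σ l) :=
      ⟨v, Subgroup.subset_closure (by simp), hvm⟩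
    have hst' := hst _ hHu hHv
    have hU := UP_of_stab hσσ P hP _ 1 (bF l) hvb one_ne_zero hHu hst' (tauF l)
      (tauF_add hl0 hD hσl)
    refine top_of_UP hF (by omega) hσ hσσ hP hU hv hHv ?_
    rw [vF_eq hl0 hD hσl]
    simp
    exact ⟨hD, hl0⟩

theorem cube_mem_stab {σ : F →+* F} (hF : Fintype.card F = q ^ 2)
    (hσσ : ∀ x, σ (σ x) = x) {l : F} (hl0 : l ≠ 0)
    (hD : l ^ 2 - 1 ≠ 0) (hσl : σ l = l⁻¹) {P : Matrix (Fin 3) (Fin 3) F}
    (hP : Pᵀ * P.map σ = Jm)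
    (H : Subgroup ↥(Cfsg.SU 3 F q)) (hHu : InJ σ P H (uF σ l)) (hHv : InJ σ P H (vF σ l)) :
    l ^ 3 ∈ Cfsg.Agent.Lib.helper15.RU.stabRing (Aset σ hσσ P hP H) := by
  have h1 : InJ σ P H (sF l * tF l) := by
    rw [← uF_mul_vF hl0 hD hσl]
    exact hHu.mul hP hHv
  have h2 : (sF l * tF l) ^ (q ^ 2) = sF l := by
    have hc : Commute (sF l) (tF l) := sF_tF_comm
    rw [hc.mul_pow, sF_pow, tF_pow, ← hF, FiniteField.pow_card, FiniteField.pow_card,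
      FiniteField.cast_card_eq_zero, zero_mul, neg_zero]
    have : (!![1, 0, 0; 0, 1, 0; 0, 0, 1] : Matrix (Fin 3) (Fin 3) F) = 1 := by
      ext i j
      fin_cases i <;> fin_cases j <;> simp
    rw [this, Matrix.mul_one]
    rfl
  have h3 : InJ σ P H (sF l) := by
    rw [← h2]
    exact h1.pow hP _
  have h4 := stab_of_upper hσσ P hP H (sF_isJU hl0 hσl) h3 (by simp [sF]) (by simp [sF])
  have h5 : sF l 0 0 * σ (sF l 1 1) = l ^ 3 := by
    simp [sF, hσl]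
    field_simp
  rw [h5] at h4
  exact h4

theorem stab_generic {σ : F →+* F} (hF : Fintype.card F = q ^ 2)
    (hσσ : ∀ x, σ (σ x) = x) {l : F} (hl0 : l ≠ 0)
    (hD : l ^ 2 - 1 ≠ 0) (hσl : σ l = l⁻¹) {P : Matrix (Fin 3) (Fin 3) F}
    (hP : Pᵀ * P.map σ = Jm) (hcl : Subring.closure ({l ^ 3} : Set F) = ⊤)
    (H : Subgroup ↥(Cfsg.SU 3 F q)) (hHu : InJ σ P H (uF σ l)) (hHv : InJ σ P H (vF σ l)) :
    Cfsg.Agent.Lib.helper15.RU.stabRing (Aset σ hσσ P hP H) = ⊤ := by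
  have h4 := cube_mem_stab hF hσσ hl0 hD hσl hP H hHu hHv
  rw [eq_top_iff, ← hcl, Subring.closure_le]
  intro x hx
  rw [Set.mem_singleton_iff] at hx
  rw [hx]
  exact h4

end main

end Cfsg.Agent.Lib.helper15.SU3G
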