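import Mathlib
import Cfsg.Agent.Lib.helper15.RU2

set_option autoImplicit false

namespace Cfsg.Agent.Lib.helper15.SU3G

open Cfsg.Agent.Lib.helper15.RU

section cnt
variable {F : Type*} [Field F] [Fintype F]

theorem stab_top_of_card (A : AddSubgroup F)
    (h : Nat.card ↥(stabUnits A) + 1 = Fintype.card F) : stabRing A = ⊤ := by
  classical
  have htop : stabUnits A = ⊤ := by
    apply Subgroup.eq_top_of_card_eq
    rw [Nat.card_units F, Nat.card_eq_fintype_card (α := F), ← h]
    omega
  rw [eq_top_iff]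
  intro y _
  by_cases hy : y = 0
  · rw [hy]
    exact (stabRing A).zero_mem
  · have hu : Units.mk0 y hy ∈ stabUnits A := by
      rw [htop]
      exact Subgroup.mem_top _
    rw [mem_stabUnits, Units.val_mk0] at hu
    exact hu

theorem card_stab_dvd (A : AddSubgroup F) :
    Nat.card ↥(stabUnits A) + 1 ∣ Fintype.card F := by
  rw [← card_stabRing, ← Nat.card_eq_fintype_card]
  exact AddSubgroup.card_addSubgroup_dvd_card (stabRing A).toAddSubgroup

theorem pow_card_stab (A : AddSubgroup F) (c : F) (hc : c ∈ stabRing A) (hc0 : c ≠ 0) :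
    c ^ Nat.card ↥(stabUnits A) = 1 := by
  have hu : Units.mk0 c hc0 ∈ stabUnits A := by
    rw [mem_stabUnits, Units.val_mk0]
    exact hc
  have h1 : ((⟨Units.mk0 c hc0, hu⟩ : ↥(stabUnits A)) ^ Nat.card ↥(stabUnits A)) = 1 :=
    pow_card_eq_one'
  have h2 := congrArg (fun x : ↥(stabUnits A) => (x : Fˣ)) h1
  simp only [Subgroup.coe_pow, Subgroup.coe_one] at h2
  have h3 := congrArg (fun x : Fˣ => (x : F)) h2
  simp only [Units.val_pow_eq_pow_val, Units.val_mk0, Units.val_one] at h3
  exact h3

theorem stab_top_five (hF : Fintype.card F = 25) (A : AddSubgroup F) (c : F)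
    (hc : c ∈ stabRing A) (hc5 : c ^ 5 ≠ c) : stabRing A = ⊤ := by
  apply stab_top_of_card
  obtain ⟨m, hm⟩ : ∃ m, m = Nat.card ↥(stabUnits A) := ⟨_, rfl⟩
  have hm0 : 0 < m := by
    rw [hm]
    exact Nat.card_pos
  have hd := card_stab_dvd A
  rw [← hm, hF] at hd
  rw [← hm, hF]
  have h25 : (25 : ℕ) = 5 ^ 2 := by norm_num
  rw [h25] at hd
  obtain ⟨k, hk, hmk⟩ := (Nat.dvd_prime_pow Nat.prime_five).mp hd
  interval_cases k
  · omega
  · exfalso
    have hm4 : m = 4 := by omega
    apply hc5
    by_cases hc0 : c = 0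
    · rw [hc0]
      ring
    · have := pow_card_stab A c hc hc0
      rw [← hm, hm4] at this
      rw [pow_succ, this, one_mul]
  · omega

theorem stab_top_eight (hF : Fintype.card F = 64) (A : AddSubgroup F) (ω c : F)
    (hω : ω ∈ stabRing A) (hω1 : ω ≠ 1) (hω3 : ω ^ 3 = 1)
    (hc : c ∈ stabRing A) (hc4 : c ^ 4 ≠ c) : stabRing A = ⊤ := by
  classical
  apply stab_top_of_card
  obtain ⟨m, hm⟩ : ∃ m, m = Nat.card ↥(stabUnits A) := ⟨_, rfl⟩
  have hm0 : 0 < m := by
    rw [hm]
    exact Nat.card_pos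
  have hd := card_stab_dvd A
  rw [← hm, hF] at hd
  rw [← hm, hF]
  have hω0 : ω ≠ 0 := by
    intro h
    rw [h] at hω3
    norm_num at hω3
  have h3 : 3 ∣ m := by
    have hu : Units.mk0 ω hω0 ∈ stabUnits A := by
      rw [mem_stabUnits, Units.val_mk0]
      exact hω
    have ho : orderOf (⟨Units.mk0 ω hω0, hu⟩ : ↥(stabUnits A)) = 3 := by
      apply orderOf_eq_prime
      · apply Subtype.ext
        apply Units.ext
        simpa using hω3
      · intro h
        apply hω1
        have := congrArg (fun x : ↥(stabUnits A) => ((x : Fˣ) : F)) h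
        simpa using this
    rw [hm, ← ho]
    exact orderOf_dvd_natCard _
  have h63 : m ∣ 63 := by
    have := Subgroup.card_subgroup_dvd_card (stabUnits A)
    rw [Nat.card_units F, Nat.card_eq_fintype_card (α := F), hF, ← hm] at this
    exact this
  have h64 : (64 : ℕ) = 2 ^ 6 := by norm_num
  rw [h64] at hd
  obtain ⟨k, hk, hmk⟩ := (Nat.dvd_prime_pow Nat.prime_two).mp hd
  interval_cases k
  · omega
  · omega
  · exfalso
    have hm3 : m = 3 := by omega
    apply hc4
    by_cases hc0 : c = 0
    · rw [hc0]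
      ring
    · have := pow_card_stab A c hc hc0
      rw [← hm, hm3] at this
      rw [pow_succ, this, one_mul]
  · omega
  · exfalso
    have : m = 15 := by omega
    rw [this] at h63
    norm_num at h63
  · omega
  · omega

end cnt

end Cfsg.Agent.Lib.helper15.SU3G
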