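import Mathlib
import Cfsg.Agent.Lib.helper15.SU3G.A8
import Cfsg.Agent.Lib.helper15.SU3G.A9

set_option autoImplicit false

namespace Cfsg.Agent.Lib.helper15.SU3G

open Matrix

section mk
variable {F : Type*} [Field F]

theorem mk_mul (a00 a01 a02 a10 a11 a12 a20 a21 a22 b00 b01 b02 b10 b11 b12 b20 b21 b22 : F) :
    (!![a00, a01, a02; a10, a11, a12; a20, a21, a22] : Matrix (Fin 3) (Fin 3) F) *
      !![b00, b01, b02; b10, b11, b12; b20, b21, b22] =
    !![a00 * b00 + a01 * b10 + a02 * b20, a00 * b01 + a01 * b11 + a02 * b21,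
        a00 * b02 + a01 * b12 + a02 * b22;
      a10 * b00 + a11 * b10 + a12 * b20, a10 * b01 + a11 * b11 + a12 * b21,
        a10 * b02 + a11 * b12 + a12 * b22;
      a20 * b00 + a21 * b10 + a22 * b20, a20 * b01 + a21 * b11 + a22 * b21,
        a20 * b02 + a21 * b12 + a22 * b22] := by
  ext i j
  fin_cases i <;> fin_cases j <;> simp [Matrix.mul_apply, Fin.sum_univ_three]

theorem mk_congr {a00 a01 a02 a10 a11 a12 a20 a21 a22 b00 b01 b02 b10 b11 b12 b20 b21 b22 : F}
    (h00 : a00 = b00) (h01 : a01 = b01) (h02 : a02 = b02)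
    (h10 : a10 = b10) (h11 : a11 = b11) (h12 : a12 = b12)
    (h20 : a20 = b20) (h21 : a21 = b21) (h22 : a22 = b22) :
    (!![a00, a01, a02; a10, a11, a12; a20, a21, a22] : Matrix (Fin 3) (Fin 3) F) =
      !![b00, b01, b02; b10, b11, b12; b20, b21, b22] := by
  rw [h00, h01, h02, h10, h11, h12, h20, h21, h22]

theorem mk_one : (!![1, 0, 0; 0, 1, 0; 0, 0, 1] : Matrix (Fin 3) (Fin 3) F) = 1 := by
  ext i j
  fin_cases i <;> fin_cases j <;> simp

end mk

end Cfsg.Agent.Lib.helper15.SU3G
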