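import Mathlib
import Cfsg.Agent.Lib.helper15.SU3G.A10

set_option autoImplicit false

namespace Cfsg.Agent.Lib.helper15.SU3G.E5

open Matrix Cfsg.Agent.Lib.helper15.SU3G

section gen
variable {F : Type*} [Field F]

def mU (l : F) : Matrix (Fin 3) (Fin 3) F :=
  !![1, 1, 4 * l; 0, 1, 4; 0, 0, 1]

def mV (l : F) : Matrix (Fin 3) (Fin 3) F :=
  !![3, 1 * l, 4; 4 + 3 * l, 4 * l, 1 * l; 4 + 3 * l, 0, 1 * l]

def mUi (l : F) : Matrix (Fin 3) (Fin 3) F :=
  !![1, 4, 4 + 1 * l; 0, 1, 1; 0, 0, 1]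

def mVi (l : F) : Matrix (Fin 3) (Fin 3) F :=
  !![1 + 4 * l, 1 + 4 * l, 4; 0, 4 + 1 * l, 1 + 4 * l; 2 + 2 * l, 2 + 2 * l, 3]

def w1 (l : F) : Matrix (Fin 3) (Fin 3) F :=
  !![3, 3 + 1 * l, 4 + 1 * l; 4 + 3 * l, 4 + 2 * l, 3; 4 + 3 * l, 4 + 3 * l, 3 + 4 * l]

def w2 (l : F) : Matrix (Fin 3) (Fin 3) F :=
  !![4 + 4 * l, 2 * l, 3; 3 + 2 * l, 2 + 1 * l, 1 + 3 * l; 3 * l, 3 + 2 * l, 2]

def w3 (l : F) : Matrix (Fin 3) (Fin 3) F :=
  !![4 + 4 * l, 4 + 1 * l, 2; 3 + 2 * l, 3 * l, 1 + 2 * l; 3 * l, 3, 2]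

def w4 (l : F) : Matrix (Fin 3) (Fin 3) F :=
  !![2, 2 + 4 * l, 2 + 2 * l; 3 + 2 * l, 2 * l, 3 + 4 * l; 2 + 4 * l, 4 + 2 * l, 4 + 4 * l]

def w5 (l : F) : Matrix (Fin 3) (Fin 3) F :=
  !![2, 4 * l, 2 + 3 * l; 3 + 2 * l, 2, 3 + 4 * l; 2 + 4 * l, 2 + 3 * l, 2 + 3 * l]

def w6 (l : F) : Matrix (Fin 3) (Fin 3) F :=
  !![3, 4 + 3 * l, 1 + 4 * l; 2 + 4 * l, 3 + 3 * l, 3 + 2 * l; 4 + 1 * l, 4 + 1 * l, 2 + 1 * l]

def w7 (l : F) : Matrix (Fin 3) (Fin 3) F :=
  !![3 + 4 * l, 3 + 1 * l, 2 * l; 0, 4, 3 + 2 * l; 0, 0, 4 + 2 * l]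

theorem mU_mul_mUi (l : F) (hl : l ^ 2 - l + 1 = 0) (hp : (5 : F) = 0) :
    mU l * mUi l = 1 := by
  unfold mU mUi
  rw [mk_mul]
  rw [← mk_one]
  apply mk_congr
  · linear_combination (0) * hl + (0) * hp
  · linear_combination (0) * hl + (1) * hp
  · linear_combination (0) * hl + (1 + 1 * l) * hp
  · linear_combination (0) * hl + (0) * hp
  · linear_combination (0) * hl + (0) * hp
  · linear_combination (0) * hl + (1) * hp
  · linear_combination (0) * hl + (0) * hp
  · linear_combination (0) * hl + (0) * hp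
  · linear_combination (0) * hl + (0) * hp

theorem mV_mul_mVi (l : F) (hl : l ^ 2 - l + 1 = 0) (hp : (5 : F) = 0) :
    mV l * mVi l = 1 := by
  unfold mV mVi
  rw [mk_mul]
  rw [← mk_one]
  apply mk_congr
  · linear_combination (0) * hl + (2 + 4 * l) * hp
  · linear_combination (1) * hl + (2 + 5 * l) * hp
  · linear_combination (4) * hl + (4 + 1 * l) * hp
  · linear_combination (14) * hl + ((-2) + 7 * l) * hp
  · linear_combination (18) * hl + ((-3) + 11 * l) * hp
  · linear_combination (16) * hl + (7 * l) * hp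
  · linear_combination (14) * hl + ((-2) + 7 * l) * hp
  · linear_combination (14) * hl + ((-2) + 7 * l) * hp
  · linear_combination (0) * hl + (3 + 3 * l) * hp

theorem step1 (l : F) (hl : l ^ 2 - l + 1 = 0) (hp : (5 : F) = 0) :
    mV l * mU l = w1 l := by
  unfold mV mU w1
  rw [mk_mul]
  apply mk_congr
  · linear_combination (0) * hl + (0) * hp
  · linear_combination (0) * hl + (0) * hp
  · linear_combination (0) * hl + (3 * l) * hp
  · linear_combination (0) * hl + (0) * hp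
  · linear_combination (0) * hl + (1 * l) * hp
  · linear_combination (12) * hl + ((-3) + 9 * l) * hp
  · linear_combination (0) * hl + (0) * hp
  · linear_combination (0) * hl + (0) * hp
  · linear_combination (12) * hl + ((-3) + 5 * l) * hp

theorem step2 (l : F) (hl : l ^ 2 - l + 1 = 0) (hp : (5 : F) = 0) :
    w1 l * mVi l = w2 l := by
  unfold w1 mVi w2
  rw [mk_mul]
  apply mk_congr
  · linear_combination (2) * hl + (1 + 4 * l) * hp
  · linear_combination (3) * hl + (4 + 6 * l) * hp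
  · linear_combination (4) * hl + (4 + 4 * l) * hp
  · linear_combination (12) * hl + ((-1) + 7 * l) * hp
  · linear_combination (14) * hl + (2 + 10 * l) * hp
  · linear_combination (8) * hl + (4 + 7 * l) * hp
  · linear_combination (20) * hl + ((-2) + 10 * l) * hp
  · linear_combination (23) * hl + (14 * l) * hp
  · linear_combination (12) * hl + (3 + 11 * l) * hp

theorem step3 (l : F) (hl : l ^ 2 - l + 1 = 0) (hp : (5 : F) = 0) :
    w2 l * mU l = w3 l := by
  unfold w2 mU w3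
  rw [mk_mul]
  apply mk_congr
  · linear_combination (0) * hl + (0) * hp
  · linear_combination (0) * hl + (1 * l) * hp
  · linear_combination (16) * hl + ((-3) + 8 * l) * hp
  · linear_combination (0) * hl + (0) * hp
  · linear_combination (0) * hl + (1) * hp
  · linear_combination (8) * hl + (5 * l) * hp
  · linear_combination (0) * hl + (0) * hp
  · linear_combination (0) * hl + (1 * l) * hp
  · linear_combination (12) * hl + (4 * l) * hp

theorem step4 (l : F) (hl : l ^ 2 - l + 1 = 0) (hp : (5 : F) = 0) :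
    w3 l * mVi l = w4 l := by
  unfold w3 mVi w4
  rw [mk_mul]
  apply mk_congr
  · linear_combination (16) * hl + ((-2) + 8 * l) * hp
  · linear_combination (17) * hl + (1 + 9 * l) * hp
  · linear_combination (4) * hl + (4 + 7 * l) * hp
  · linear_combination (12) * hl + ((-2) + 6 * l) * hp
  · linear_combination (15) * hl + ((-2) + 9 * l) * hp
  · linear_combination (12) * hl + (5 * l) * hp
  · linear_combination (12) * hl + ((-2) + 3 * l) * hp
  · linear_combination (12) * hl + (4 * l) * hp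
  · linear_combination (0) * hl + (1 + 4 * l) * hp

theorem step5 (l : F) (hl : l ^ 2 - l + 1 = 0) (hp : (5 : F) = 0) :
    w4 l * mUi l = w5 l := by
  unfold w4 mUi w5
  rw [mk_mul]
  apply mk_congr
  · linear_combination (0) * hl + (0) * hp
  · linear_combination (0) * hl + (2) * hp
  · linear_combination (0) * hl + (2 + 1 * l) * hp
  · linear_combination (0) * hl + (0) * hp
  · linear_combination (0) * hl + (2 + 2 * l) * hp
  · linear_combination (2) * hl + (2 + 3 * l) * hp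
  · linear_combination (0) * hl + (0) * hp
  · linear_combination (0) * hl + (2 + 3 * l) * hp
  · linear_combination (4) * hl + (2 + 5 * l) * hp

theorem step6 (l : F) (hl : l ^ 2 - l + 1 = 0) (hp : (5 : F) = 0) :
    w5 l * mV l = w6 l := by
  unfold w5 mV w6
  rw [mk_mul]
  apply mk_congr
  · linear_combination (21) * hl + ((-2) + 11 * l) * hp
  · linear_combination (16) * hl + ((-4) + 3 * l) * hp
  · linear_combination (7) * hl + (1 * l) * hp
  · linear_combination (12) * hl + (3 + 9 * l) * hp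
  · linear_combination (2) * hl + ((-1) + 2 * l) * hp
  · linear_combination (4) * hl + (1 + 3 * l) * hp
  · linear_combination (18) * hl + (13 * l) * hp
  · linear_combination (16) * hl + ((-4) + 5 * l) * hp
  · linear_combination (6) * hl + (5 * l) * hp

theorem step7 (l : F) (hl : l ^ 2 - l + 1 = 0) (hp : (5 : F) = 0) :
    w6 l * mV l = w7 l := by
  unfold w6 mV w7
  rw [mk_mul]
  apply mk_congr
  · linear_combination (21) * hl + (1 + 12 * l) * hp
  · linear_combination (12) * hl + ((-3) + 6 * l) * hp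
  · linear_combination (7) * hl + (1 + 2 * l) * hp
  · linear_combination (15) * hl + (3 + 13 * l) * hp
  · linear_combination (16) * hl + ((-4) + 6 * l) * hp
  · linear_combination (5) * hl + (5 * l) * hp
  · linear_combination (6) * hl + (6 + 7 * l) * hp
  · linear_combination (5) * hl + ((-1) + 5 * l) * hp
  · linear_combination (2) * hl + (2 + 2 * l) * hp

theorem bF_eq (l : F) (hl : l ^ 2 - l + 1 = 0) (hp : (5 : F) = 0) (hD : l ^ 2 - 1 ≠ 0) :
    bF l = 4 * l := by
  unfold bF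
  rw [div_eq_iff (pow_ne_zero 3 hD)]
  linear_combination ((-25) + (-6) * l + 19 * l ^ 2 + 11 * l ^ 3 + (-5) * l ^ 4 + (-4) * l ^ 5) * hl + (5 + (-3) * l) * hp

theorem sb_eq (l : F) (hl : l ^ 2 - l + 1 = 0) (hp : (5 : F) = 0) (hD : l ^ 2 - 1 ≠ 0) :
    (2 * l ^ 3 - 3 * l ^ 2 + 1) / (l ^ 2 - 1) ^ 3 = 4 + 1 * l := by
  rw [div_eq_iff (pow_ne_zero 3 hD)]
  linear_combination ((-15) + 16 * l + 16 * l ^ 2 + (-1) * l ^ 3 + (-5) * l ^ 4 + (-1) * l ^ 5) * hl + (4 + (-6) * l) * hp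

theorem l2i_eq (l : F) (hl : l ^ 2 - l + 1 = 0) (hp : (5 : F) = 0) :
    (l ^ 2)⁻¹ = 4 * l := by
  apply inv_eq_of_mul_eq_one_right
  linear_combination (4 + 4 * l) * hl + ((-1)) * hp

theorem r3_eq (l : F) (hl : l ^ 2 - l + 1 = 0) (hp : (5 : F) = 0) (hl0 : l ≠ 0) :
    (l ^ 2 - 1) ^ 3 / l ^ 2 = 1 + 2 * l := by
  rw [div_eq_iff (pow_ne_zero 2 hl0)]
  linear_combination ((-1) + (-6) * l + (-3) * l ^ 2 + 1 * l ^ 3 + 1 * l ^ 4) * hl + (1 * l) * hp

theorem li_eq (l : F) (hl : l ^ 2 - l + 1 = 0) (hp : (5 : F) = 0) :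
    l⁻¹ = 1 + 4 * l := by
  apply inv_eq_of_mul_eq_one_right
  linear_combination (4) * hl + ((-1) + 1 * l) * hp

theorem mV_eq (l : F) (hl : l ^ 2 - l + 1 = 0) (hp : (5 : F) = 0) :
    (!![3 - l - (4 * l), -(4 * l), l * (4 + 1 * l); -(1 + 2 * l), (4 * l), l; -(1 + 2 * l), 0, l] : Matrix (Fin 3) (Fin 3) F) = mV l := by
  unfold mV
  apply mk_congr
  · linear_combination (0) * hl + ((-1) * l) * hp
  · linear_combination (0) * hl + ((-1) * l) * hp
  · linear_combination (1) * hl + ((-1) + 1 * l) * hp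
  · linear_combination (0) * hl + ((-1) + (-1) * l) * hp
  · linear_combination (0) * hl + (0) * hp
  · linear_combination (0) * hl + (0) * hp
  · linear_combination (0) * hl + ((-1) + (-1) * l) * hp
  · linear_combination (0) * hl + (0) * hp
  · linear_combination (0) * hl + (0) * hp

theorem word_InJ {q : ℕ} {σ : F →+* F} {P : Matrix (Fin 3) (Fin 3) F} (hP : Pᵀ * P.map σ = Jm)
    {H : Subgroup ↥(Cfsg.SU 3 F q)} (l : F) (hl : l ^ 2 - l + 1 = 0) (hp : (5 : F) = 0)
    (hu : InJ σ P H (mU l)) (hv : InJ σ P H (mV l)) : InJ σ P H (w7 l) := by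
  have hU : InJ σ P H (mUi l) := hu.of_mul_eq_one hP (mU_mul_mUi l hl hp)
  have hV : InJ σ P H (mVi l) := hv.of_mul_eq_one hP (mV_mul_mVi l hl hp)
  have h1 : InJ σ P H (w1 l) := by
    rw [← step1 l hl hp]
    exact hv.mul hP hu
  have h2 : InJ σ P H (w2 l) := by
    rw [← step2 l hl hp]
    exact h1.mul hP hV
  have h3 : InJ σ P H (w3 l) := by
    rw [← step3 l hl hp]
    exact h2.mul hP hu
  have h4 : InJ σ P H (w4 l) := by
    rw [← step4 l hl hp]
    exact h3.mul hP hV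
  have h5 : InJ σ P H (w5 l) := by
    rw [← step5 l hl hp]
    exact h4.mul hP hU
  have h6 : InJ σ P H (w6 l) := by
    rw [← step6 l hl hp]
    exact h5.mul hP hv
  have h7 : InJ σ P H (w7 l) := by
    rw [← step7 l hl hp]
    exact h6.mul hP hv
  exact h7

theorem word_isJU {σ : F →+* F} (l : F) (hl : l ^ 2 - l + 1 = 0) (hp : (5 : F) = 0)
    (hu : IsJU σ (mU l)) (hv : IsJU σ (mV l)) : IsJU σ (w7 l) := by
  have hU : IsJU σ (mUi l) := hu.of_mul_eq_one σ (mU_mul_mUi l hl hp)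
  have hV : IsJU σ (mVi l) := hv.of_mul_eq_one σ (mV_mul_mVi l hl hp)
  have h1 : IsJU σ (w1 l) := by
    rw [← step1 l hl hp]
    exact hv.mul σ hu
  have h2 : IsJU σ (w2 l) := by
    rw [← step2 l hl hp]
    exact h1.mul σ hV
  have h3 : IsJU σ (w3 l) := by
    rw [← step3 l hl hp]
    exact h2.mul σ hu
  have h4 : IsJU σ (w4 l) := by
    rw [← step4 l hl hp]
    exact h3.mul σ hV
  have h5 : IsJU σ (w5 l) := by
    rw [← step5 l hl hp]
    exact h4.mul σ hU
  have h6 : IsJU σ (w6 l) := by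
    rw [← step6 l hl hp]
    exact h5.mul σ hv
  have h7 : IsJU σ (w7 l) := by
    rw [← step7 l hl hp]
    exact h6.mul σ hv
  exact h7

end gen

end Cfsg.Agent.Lib.helper15.SU3G.E5
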