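import Mathlib
import Cfsg.Agent.Lib.helper15.SU3G.A10

set_option autoImplicit false

namespace Cfsg.Agent.Lib.helper15.SU3G.E8

open Matrix Cfsg.Agent.Lib.helper15.SU3G

section gen
variable {F : Type*} [Field F]

def mU (l : F) : Matrix (Fin 3) (Fin 3) F :=
  !![1, 1, 1 + 1 * l + 1 * l ^ 2 + 1 * l ^ 3 + 1 * l ^ 4; 0, 1, 1; 0, 0, 1]

def mV (l : F) : Matrix (Fin 3) (Fin 3) F :=
  !![1 + 1 * l ^ 4, 1 * l + 1 * l ^ 4, 1 * l ^ 2 + 1 * l ^ 3 + 1 * l ^ 4 + 1 * l ^ 5; 1 + 1 * l + 1 * l ^ 2, 1 * l + 1 * l ^ 4, 1 * l; 1 + 1 * l + 1 * l ^ 2, 0, 1 * l]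

def mUi (l : F) : Matrix (Fin 3) (Fin 3) F :=
  !![1, 1, 1 * l + 1 * l ^ 2 + 1 * l ^ 3 + 1 * l ^ 4; 0, 1, 1; 0, 0, 1]

def mVi (l : F) : Matrix (Fin 3) (Fin 3) F :=
  !![1 * l ^ 2 + 1 * l ^ 5, 1 * l ^ 2 + 1 * l ^ 5, 1 + 1 * l + 1 * l ^ 3 + 1 * l ^ 5; 0, 1 * l ^ 2, 1 * l ^ 2; 1 + 1 * l + 1 * l ^ 2 + 1 * l ^ 4 + 1 * l ^ 5, 1 + 1 * l + 1 * l ^ 2 + 1 * l ^ 4 + 1 * l ^ 5, 1 + 1 * l ^ 5]

def w1 (l : F) : Matrix (Fin 3) (Fin 3) F :=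
  !![1 * l ^ 2 + 1 * l ^ 5, 0, 1 * l ^ 2 + 1 * l ^ 5; 0, 1 * l ^ 2, 0; 1 + 1 * l + 1 * l ^ 2 + 1 * l ^ 4 + 1 * l ^ 5, 0, 1 + 1 * l + 1 * l ^ 4]

def w2 (l : F) : Matrix (Fin 3) (Fin 3) F :=
  !![1 + 1 * l ^ 2 + 1 * l ^ 3 + 1 * l ^ 5, 1 + 1 * l ^ 2 + 1 * l ^ 3 + 1 * l ^ 5, 1 + 1 * l ^ 2; 0, 1 * l ^ 4, 1 * l ^ 4; 1 + 1 * l + 1 * l ^ 4 + 1 * l ^ 5, 1 + 1 * l + 1 * l ^ 4 + 1 * l ^ 5, 1 + 1 * l ^ 2 + 1 * l ^ 3 + 1 * l ^ 4]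

def w3 (l : F) : Matrix (Fin 3) (Fin 3) F :=
  !![1 + 1 * l ^ 2 + 1 * l ^ 3 + 1 * l ^ 5, 0, 1 + 1 * l + 1 * l ^ 2 + 1 * l ^ 3 + 1 * l ^ 4 + 1 * l ^ 5; 0, 1 * l ^ 4, 0; 1 + 1 * l + 1 * l ^ 4 + 1 * l ^ 5, 0, 1 * l + 1 * l ^ 2 + 1 * l ^ 3 + 1 * l ^ 4]

def w4 (l : F) : Matrix (Fin 3) (Fin 3) F :=
  !![1 * l ^ 3, 1 + 1 * l ^ 3 + 1 * l ^ 4, 1 * l + 1 * l ^ 3; 1 + 1 * l ^ 3 + 1 * l ^ 4 + 1 * l ^ 5, 1 * l ^ 2, 1 * l ^ 5; 1 + 1 * l ^ 2 + 1 * l ^ 4 + 1 * l ^ 5, 1 * l + 1 * l ^ 3 + 1 * l ^ 4 + 1 * l ^ 5, 1 * l + 1 * l ^ 3 + 1 * l ^ 4 + 1 * l ^ 5]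

def w5 (l : F) : Matrix (Fin 3) (Fin 3) F :=
  !![1 * l ^ 3, 1 + 1 * l ^ 4, 1 * l ^ 3 + 1 * l ^ 4 + 1 * l ^ 5; 1 + 1 * l ^ 3 + 1 * l ^ 4 + 1 * l ^ 5, 1 + 1 * l ^ 2 + 1 * l ^ 3 + 1 * l ^ 4 + 1 * l ^ 5, 1 * l ^ 4 + 1 * l ^ 5; 1 + 1 * l ^ 2 + 1 * l ^ 4 + 1 * l ^ 5, 1 + 1 * l + 1 * l ^ 2 + 1 * l ^ 3, 1 * l + 1 * l ^ 2 + 1 * l ^ 3]

def w6 (l : F) : Matrix (Fin 3) (Fin 3) F :=
  !![1 * l + 1 * l ^ 2 + 1 * l ^ 3 + 1 * l ^ 4, 1 * l ^ 2 + 1 * l ^ 4, 1 * l ^ 2; 1 + 1 * l ^ 2 + 1 * l ^ 3 + 1 * l ^ 4 + 1 * l ^ 5, 1, 1 * l + 1 * l ^ 4 + 1 * l ^ 5; 1 * l + 1 * l ^ 2 + 1 * l ^ 3, 1 * l + 1 * l ^ 3 + 1 * l ^ 5, 1 * l + 1 * l ^ 2 + 1 * l ^ 3 + 1 * l ^ 4]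

def w7 (l : F) : Matrix (Fin 3) (Fin 3) F :=
  !![1 * l + 1 * l ^ 2 + 1 * l ^ 3 + 1 * l ^ 4, 1 * l + 1 * l ^ 3, 1 + 1 * l + 1 * l ^ 2 + 1 * l ^ 4 + 1 * l ^ 5; 1 + 1 * l ^ 2 + 1 * l ^ 3 + 1 * l ^ 4 + 1 * l ^ 5, 1 * l ^ 2 + 1 * l ^ 3 + 1 * l ^ 4 + 1 * l ^ 5, 1 + 1 * l + 1 * l ^ 3 + 1 * l ^ 5; 1 * l + 1 * l ^ 2 + 1 * l ^ 3, 1 * l ^ 2 + 1 * l ^ 5, 1 * l ^ 2 + 1 * l ^ 3 + 1 * l ^ 4]

def w8 (l : F) : Matrix (Fin 3) (Fin 3) F :=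
  !![1 * l ^ 2 + 1 * l ^ 3 + 1 * l ^ 4 + 1 * l ^ 5, 1 * l ^ 2 + 1 * l ^ 4, 1 * l ^ 4; 1 * l ^ 2 + 1 * l ^ 3 + 1 * l ^ 4, 1 + 1 * l + 1 * l ^ 2 + 1 * l ^ 4 + 1 * l ^ 5, 1 + 1 * l; 1 * l + 1 * l ^ 4, 1 * l ^ 4, 1 + 1 * l ^ 2 + 1 * l ^ 3 + 1 * l ^ 4 + 1 * l ^ 5]

def w9 (l : F) : Matrix (Fin 3) (Fin 3) F :=
  !![1 * l ^ 2 + 1 * l ^ 3 + 1 * l ^ 4 + 1 * l ^ 5, 1 * l ^ 3 + 1 * l ^ 5, 1 + 1 * l; 1 * l ^ 2 + 1 * l ^ 3 + 1 * l ^ 4, 1 + 1 * l + 1 * l ^ 3 + 1 * l ^ 5, 1 + 1 * l ^ 2 + 1 * l ^ 3 + 1 * l ^ 5; 1 * l + 1 * l ^ 4, 1 * l, 1 * l ^ 2 + 1 * l ^ 3 + 1 * l ^ 4]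

def w10 (l : F) : Matrix (Fin 3) (Fin 3) F :=
  !![1 * l ^ 3, 1 + 1 * l ^ 2, 1 * l ^ 5; 1 + 1 * l ^ 4 + 1 * l ^ 5, 1 + 1 * l + 1 * l ^ 3 + 1 * l ^ 4 + 1 * l ^ 5, 1 * l + 1 * l ^ 2; 1 + 1 * l ^ 2, 1 * l ^ 2, 1 + 1 * l + 1 * l ^ 4 + 1 * l ^ 5]

def w11 (l : F) : Matrix (Fin 3) (Fin 3) F :=
  !![1 * l ^ 3, 1 + 1 * l ^ 2 + 1 * l ^ 3, 1 * l + 1 * l ^ 2; 1 + 1 * l ^ 4 + 1 * l ^ 5, 1 * l + 1 * l ^ 3, 1 + 1 * l + 1 * l ^ 4 + 1 * l ^ 5; 1 + 1 * l ^ 2, 1, 1 + 1 * l ^ 2 + 1 * l ^ 3 + 1 * l ^ 4]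

def w12 (l : F) : Matrix (Fin 3) (Fin 3) F :=
  !![1 + 1 * l + 1 * l ^ 3 + 1 * l ^ 5, 1 + 1 * l + 1 * l ^ 4, 1 + 1 * l ^ 3; 1 + 1 * l ^ 3 + 1 * l ^ 4 + 1 * l ^ 5, 1 * l ^ 3 + 1 * l ^ 4 + 1 * l ^ 5, 1 * l ^ 2 + 1 * l ^ 3; 1, 1, 1 + 1 * l + 1 * l ^ 2 + 1 * l ^ 3 + 1 * l ^ 5]

def w13 (l : F) : Matrix (Fin 3) (Fin 3) F :=
  !![1 + 1 * l + 1 * l ^ 2, 1 * l + 1 * l ^ 2 + 1 * l ^ 3, 1 + 1 * l + 1 * l ^ 4; 0, 1 * l + 1 * l ^ 4, 1 + 1 * l ^ 3; 0, 0, 1 + 1 * l ^ 3 + 1 * l ^ 5]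

theorem mU_mul_mUi (l : F) (hl : l ^ 6 + l ^ 3 + 1 = 0) (hp : (2 : F) = 0) :
    mU l * mUi l = 1 := by
  unfold mU mUi
  rw [mk_mul]
  rw [← mk_one]
  apply mk_congr
  · linear_combination (0) * hl + (0) * hp
  · linear_combination (0) * hl + (1) * hp
  · linear_combination (0) * hl + (1 + 1 * l + 1 * l ^ 2 + 1 * l ^ 3 + 1 * l ^ 4) * hp
  · linear_combination (0) * hl + (0) * hp
  · linear_combination (0) * hl + (0) * hp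
  · linear_combination (0) * hl + (1) * hp
  · linear_combination (0) * hl + (0) * hp
  · linear_combination (0) * hl + (0) * hp
  · linear_combination (0) * hl + (0) * hp

theorem mV_mul_mVi (l : F) (hl : l ^ 6 + l ^ 3 + 1 = 0) (hp : (2 : F) = 0) :
    mV l * mVi l = 1 := by
  unfold mV mVi
  rw [mk_mul]
  rw [← mk_one]
  apply mk_congr
  · linear_combination (1 + 2 * l + 2 * l ^ 2 + 3 * l ^ 3 + 1 * l ^ 4) * hl + ((-1) + (-1) * l + (-1) * l ^ 3 + 1 * l ^ 5) * hp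
  · linear_combination (2 + 2 * l + 2 * l ^ 2 + 3 * l ^ 3 + 1 * l ^ 4) * hl + ((-1) + (-1) * l + (-1) * l ^ 3 + 1 * l ^ 5) * hp
  · linear_combination ((-1) + 1 * l + 1 * l ^ 2 + 2 * l ^ 3 + 1 * l ^ 4) * hl + (1 + 1 * l ^ 3 + 1 * l ^ 5) * hp
  · linear_combination (2 + 1 * l) * hl + ((-1) + 1 * l ^ 2 + 1 * l ^ 5) * hp
  · linear_combination (3 + 1 * l) * hl + ((-2) + 1 * l ^ 2 + 1 * l ^ 5) * hp
  · linear_combination (3 + 1 * l) * hl + ((-1) + 1 * l + 1 * l ^ 2 + 1 * l ^ 5) * hp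
  · linear_combination (2 + 1 * l) * hl + ((-1) + 1 * l ^ 2 + 1 * l ^ 5) * hp
  · linear_combination (2 + 1 * l) * hl + ((-1) + 1 * l ^ 2 + 1 * l ^ 5) * hp
  · linear_combination (2 + 1 * l) * hl + ((-1) + 1 * l + 1 * l ^ 2 + 1 * l ^ 5) * hp

theorem step1 (l : F) (hl : l ^ 6 + l ^ 3 + 1 = 0) (hp : (2 : F) = 0) :
    mVi l * mU l = w1 l := by
  unfold mVi mU w1
  rw [mk_mul]
  apply mk_congr
  · linear_combination (0) * hl + (0) * hp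
  · linear_combination (0) * hl + (1 * l ^ 2 + 1 * l ^ 5) * hp
  · linear_combination (1 + 1 * l + 1 * l ^ 2 + 1 * l ^ 3) * hl + (1 * l ^ 5) * hp
  · linear_combination (0) * hl + (0) * hp
  · linear_combination (0) * hl + (0) * hp
  · linear_combination (0) * hl + (1 * l ^ 2) * hp
  · linear_combination (0) * hl + (0) * hp
  · linear_combination (0) * hl + (1 + 1 * l + 1 * l ^ 2 + 1 * l ^ 4 + 1 * l ^ 5) * hp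
  · linear_combination (2 + 2 * l + 2 * l ^ 2 + 1 * l ^ 3) * hl + (1 * l ^ 2 + 1 * l ^ 4 + 2 * l ^ 5) * hp

theorem step2 (l : F) (hl : l ^ 6 + l ^ 3 + 1 = 0) (hp : (2 : F) = 0) :
    w1 l * mVi l = w2 l := by
  unfold w1 mVi w2
  rw [mk_mul]
  apply mk_congr
  · linear_combination (1 + 2 * l + 1 * l ^ 3 + 2 * l ^ 4) * hl + ((-1) + (-1) * l + (-1) * l ^ 3 + (-1) * l ^ 4) * hp
  · linear_combination (1 + 2 * l + 1 * l ^ 3 + 2 * l ^ 4) * hl + ((-1) + (-1) * l + (-1) * l ^ 3 + (-1) * l ^ 4) * hp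
  · linear_combination (1 + 1 * l ^ 2 + 2 * l ^ 4) * hl + ((-1) + (-1) * l ^ 4 + 1 * l ^ 5) * hp
  · linear_combination (0) * hl + (0) * hp
  · linear_combination (0) * hl + (0) * hp
  · linear_combination (0) * hl + (0) * hp
  · linear_combination (2 + 1 * l + 1 * l ^ 2 + 2 * l ^ 3 + 1 * l ^ 4) * hl + ((-1) + 1 * l ^ 2 + (-1) * l ^ 3 + 1 * l ^ 5) * hp
  · linear_combination (2 + 1 * l + 1 * l ^ 2 + 2 * l ^ 3 + 1 * l ^ 4) * hl + ((-1) + 1 * l ^ 2 + (-1) * l ^ 3 + 1 * l ^ 5) * hp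
  · linear_combination (1 + 1 * l + 1 * l ^ 2 + 2 * l ^ 3 + 1 * l ^ 4) * hl + (1 * l + (-1) * l ^ 3 + 2 * l ^ 5) * hp

theorem step3 (l : F) (hl : l ^ 6 + l ^ 3 + 1 = 0) (hp : (2 : F) = 0) :
    w2 l * mU l = w3 l := by
  unfold w2 mU w3
  rw [mk_mul]
  apply mk_congr
  · linear_combination (0) * hl + (0) * hp
  · linear_combination (0) * hl + (1 + 1 * l ^ 2 + 1 * l ^ 3 + 1 * l ^ 5) * hp
  · linear_combination (2 + 2 * l + 1 * l ^ 2 + 1 * l ^ 3) * hl + ((-1) * l + 1 * l ^ 2 + 1 * l ^ 5) * hp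
  · linear_combination (0) * hl + (0) * hp
  · linear_combination (0) * hl + (0) * hp
  · linear_combination (0) * hl + (1 * l ^ 4) * hp
  · linear_combination (0) * hl + (0) * hp
  · linear_combination (0) * hl + (1 + 1 * l + 1 * l ^ 4 + 1 * l ^ 5) * hp
  · linear_combination (1 + 2 * l + 2 * l ^ 2 + 1 * l ^ 3) * hl + (1 + 1 * l ^ 4 + 1 * l ^ 5) * hp

theorem step4 (l : F) (hl : l ^ 6 + l ^ 3 + 1 = 0) (hp : (2 : F) = 0) :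
    w3 l * mV l = w4 l := by
  unfold w3 mV w4
  rw [mk_mul]
  apply mk_congr
  · linear_combination (2 + 2 * l + 1 * l ^ 3) * hl + (2 * l ^ 2 + 1 * l ^ 4 + 2 * l ^ 5) * hp
  · linear_combination (1 + 1 * l + 1 * l ^ 3) * hl + ((-1) + (-1) * l ^ 3) * hp
  · linear_combination (2 + 2 * l + 2 * l ^ 2 + 1 * l ^ 3 + 1 * l ^ 4) * hl + ((-1) + (-1) * l + (-1) * l ^ 3 + 1 * l ^ 5) * hp
  · linear_combination (1) * hl + ((-1) + (-1) * l ^ 3) * hp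
  · linear_combination (1 * l ^ 2) * hl + ((-1) * l ^ 2) * hp
  · linear_combination (0) * hl + (0) * hp
  · linear_combination (1 * l ^ 2 + 1 * l ^ 3) * hl + (1 * l + 1 * l ^ 3 + 2 * l ^ 4 + 1 * l ^ 5) * hp
  · linear_combination (1 * l ^ 2 + 1 * l ^ 3) * hl + ((-1) * l ^ 3) * hp
  · linear_combination (1 * l + 2 * l ^ 2 + 2 * l ^ 3 + 1 * l ^ 4) * hl + ((-1) * l) * hp

theorem step5 (l : F) (hl : l ^ 6 + l ^ 3 + 1 = 0) (hp : (2 : F) = 0) :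
    w4 l * mUi l = w5 l := by
  unfold w4 mUi w5
  rw [mk_mul]
  apply mk_congr
  · linear_combination (0) * hl + (0) * hp
  · linear_combination (0) * hl + (1 * l ^ 3) * hp
  · linear_combination (1 + 1 * l) * hl + (0) * hp
  · linear_combination (0) * hl + (0) * hp
  · linear_combination (0) * hl + (0) * hp
  · linear_combination (2 + 3 * l + 2 * l ^ 2 + 1 * l ^ 3) * hl + ((-1) + (-1) * l + (-1) * l ^ 3 + (-1) * l ^ 4) * hp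
  · linear_combination (0) * hl + (0) * hp
  · linear_combination (0) * hl + (1 * l ^ 4 + 1 * l ^ 5) * hp
  · linear_combination (2 + 2 * l + 2 * l ^ 2 + 1 * l ^ 3) * hl + ((-1) + (-1) * l ^ 2 + 1 * l ^ 4 + 1 * l ^ 5) * hp

theorem step6 (l : F) (hl : l ^ 6 + l ^ 3 + 1 = 0) (hp : (2 : F) = 0) :
    w5 l * mV l = w6 l := by
  unfold w5 mV w6
  rw [mk_mul]
  apply mk_congr
  · linear_combination (3 + 2 * l) * hl + ((-1) + (-1) * l + (-1) * l ^ 3 + 2 * l ^ 5) * hp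
  · linear_combination (1 * l + 1 * l ^ 2) * hl + ((-1) * l ^ 2) * hp
  · linear_combination (2 + 1 * l + 1 * l ^ 2) * hl + ((-1) + (-1) * l ^ 2 + (-1) * l ^ 3 + 1 * l ^ 5) * hp
  · linear_combination (3 + 3 * l + 1 * l ^ 2 + 1 * l ^ 3) * hl + ((-1) + (-1) * l + (-1) * l ^ 3 + 1 * l ^ 4 + 2 * l ^ 5) * hp
  · linear_combination (1 + 2 * l + 2 * l ^ 2 + 2 * l ^ 3) * hl + ((-1) + (-1) * l ^ 2 + (-1) * l ^ 3 + 1 * l ^ 4) * hp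
  · linear_combination (2 + 2 * l + 3 * l ^ 2 + 2 * l ^ 3 + 1 * l ^ 4) * hl + ((-1) + (-1) * l + (-1) * l ^ 2 + (-1) * l ^ 3 + (-1) * l ^ 4) * hp
  · linear_combination (1 * l ^ 2 + 1 * l ^ 3) * hl + (1 + 1 * l + 2 * l ^ 2 + 2 * l ^ 3 + 3 * l ^ 4 + 1 * l ^ 5) * hp
  · linear_combination (2 + 1 * l + 1 * l ^ 2 + 1 * l ^ 3) * hl + ((-1) + (-1) * l ^ 3 + 1 * l ^ 4) * hp
  · linear_combination (2 * l + 2 * l ^ 2 + 2 * l ^ 3 + 1 * l ^ 4) * hl + ((-1) * l) * hp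

theorem step7 (l : F) (hl : l ^ 6 + l ^ 3 + 1 = 0) (hp : (2 : F) = 0) :
    w6 l * mU l = w7 l := by
  unfold w6 mU w7
  rw [mk_mul]
  apply mk_congr
  · linear_combination (0) * hl + (0) * hp
  · linear_combination (0) * hl + (1 * l ^ 2 + 1 * l ^ 4) * hp
  · linear_combination (3 + 2 * l + 1 * l ^ 2) * hl + ((-2) + (-1) * l + 1 * l ^ 2 + 1 * l ^ 4 + 1 * l ^ 5) * hp
  · linear_combination (0) * hl + (0) * hp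
  · linear_combination (0) * hl + (1) * hp
  · linear_combination (3 + 3 * l + 2 * l ^ 2 + 1 * l ^ 3) * hl + ((-1) + (-1) * l + (-1) * l ^ 3 + 1 * l ^ 4 + 1 * l ^ 5) * hp
  · linear_combination (0) * hl + (0) * hp
  · linear_combination (0) * hl + (1 * l + 1 * l ^ 3) * hp
  · linear_combination (2 + 1 * l) * hl + ((-1) + 1 * l + 1 * l ^ 2 + 1 * l ^ 3 + 1 * l ^ 4 + 2 * l ^ 5) * hp

theorem step8 (l : F) (hl : l ^ 6 + l ^ 3 + 1 = 0) (hp : (2 : F) = 0) :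
    w7 l * mVi l = w8 l := by
  unfold w7 mVi w8
  rw [mk_mul]
  apply mk_congr
  · linear_combination (3 + 2 * l + 2 * l ^ 2 + 3 * l ^ 3 + 1 * l ^ 4) * hl + ((-1) + (-2) * l ^ 3 + 1 * l ^ 5) * hp
  · linear_combination (3 + 2 * l + 2 * l ^ 2 + 3 * l ^ 3 + 1 * l ^ 4) * hl + ((-1) + (-1) * l ^ 3 + 2 * l ^ 5) * hp
  · linear_combination (1 + 2 * l + 1 * l ^ 2 + 2 * l ^ 3 + 1 * l ^ 4) * hl + (1 * l ^ 2 + 2 * l ^ 5) * hp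
  · linear_combination (1 + 2 * l + 2 * l ^ 2 + 2 * l ^ 3 + 2 * l ^ 4) * hl + ((-1) * l ^ 3 + (-1) * l ^ 4 + 2 * l ^ 5) * hp
  · linear_combination (2 + 3 * l + 2 * l ^ 2 + 2 * l ^ 3 + 2 * l ^ 4) * hl + ((-1) + (-1) * l + (-1) * l ^ 3 + (-1) * l ^ 4 + 2 * l ^ 5) * hp
  · linear_combination (3 + 1 * l + 3 * l ^ 2 + 1 * l ^ 3 + 2 * l ^ 4) * hl + ((-1) + (-1) * l ^ 2 + 2 * l ^ 5) * hp
  · linear_combination (2 + 3 * l + 3 * l ^ 2 + 1 * l ^ 3) * hl + ((-1) + (-2) * l + (-1) * l ^ 2) * hp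
  · linear_combination (2 + 4 * l + 3 * l ^ 2 + 1 * l ^ 3) * hl + ((-1) + (-2) * l + (-1) * l ^ 2) * hp
  · linear_combination (1 + 3 * l + 2 * l ^ 2 + 1 * l ^ 3) * hl + ((-1) + (-1) * l + (-1) * l ^ 5) * hp

theorem step9 (l : F) (hl : l ^ 6 + l ^ 3 + 1 = 0) (hp : (2 : F) = 0) :
    w8 l * mU l = w9 l := by
  unfold w8 mU w9
  rw [mk_mul]
  apply mk_congr
  · linear_combination (0) * hl + (0) * hp
  · linear_combination (0) * hl + (1 * l ^ 2 + 1 * l ^ 4) * hp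
  · linear_combination (3 + 3 * l + 2 * l ^ 2 + 1 * l ^ 3) * hl + ((-2) + (-2) * l + (-1) * l ^ 3 + 1 * l ^ 4 + 1 * l ^ 5) * hp
  · linear_combination (0) * hl + (0) * hp
  · linear_combination (0) * hl + (1 * l ^ 2 + 1 * l ^ 4) * hp
  · linear_combination (3 + 2 * l + 1 * l ^ 2) * hl + ((-1) + (-1) * l ^ 3 + 1 * l ^ 4 + 1 * l ^ 5) * hp
  · linear_combination (0) * hl + (0) * hp
  · linear_combination (0) * hl + (1 * l ^ 4) * hp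
  · linear_combination (1 + 1 * l + 1 * l ^ 2) * hl + (1 * l ^ 4 + 1 * l ^ 5) * hp

theorem step10 (l : F) (hl : l ^ 6 + l ^ 3 + 1 = 0) (hp : (2 : F) = 0) :
    w9 l * mV l = w10 l := by
  unfold w9 mV w10
  rw [mk_mul]
  apply mk_congr
  · linear_combination (1 + 2 * l + 1 * l ^ 2 + 1 * l ^ 3) * hl + (1 * l ^ 2 + 1 * l ^ 5) * hp
  · linear_combination (1 + 2 * l + 1 * l ^ 2 + 2 * l ^ 3) * hl + ((-1) + (-1) * l + (-1) * l ^ 2 + (-1) * l ^ 3) * hp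
  · linear_combination (2 + 3 * l + 3 * l ^ 2 + 2 * l ^ 3 + 1 * l ^ 4) * hl + ((-1) + (-1) * l + (-1) * l ^ 2 + (-2) * l ^ 3 + (-1) * l ^ 4 + (-1) * l ^ 5) * hp
  · linear_combination (3 + 3 * l + 1 * l ^ 2) * hl + ((-1) + 2 * l ^ 2 + 1 * l ^ 3 + 1 * l ^ 5) * hp
  · linear_combination (1 + 2 * l + 1 * l ^ 2 + 1 * l ^ 3) * hl + ((-1) + (-1) * l + (-1) * l ^ 3) * hp
  · linear_combination (4 + 3 * l + 2 * l ^ 2 + 1 * l ^ 3) * hl + ((-2) + (-1) * l + (-1) * l ^ 2 + (-2) * l ^ 3) * hp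
  · linear_combination (1 + 1 * l ^ 2) * hl + ((-1) + 1 * l + 1 * l ^ 3 + 2 * l ^ 4 + 1 * l ^ 5) * hp
  · linear_combination (1 * l ^ 2) * hl + (1 * l ^ 5) * hp
  · linear_combination (1 + 1 * l + 1 * l ^ 2 + 1 * l ^ 3) * hl + ((-1) + (-1) * l) * hp

theorem step11 (l : F) (hl : l ^ 6 + l ^ 3 + 1 = 0) (hp : (2 : F) = 0) :
    w10 l * mU l = w11 l := by
  unfold w10 mU w11
  rw [mk_mul]
  apply mk_congr
  · linear_combination (0) * hl + (0) * hp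
  · linear_combination (0) * hl + (0) * hp
  · linear_combination (1 + 1 * l) * hl + ((-1) * l + 1 * l ^ 5) * hp
  · linear_combination (0) * hl + (0) * hp
  · linear_combination (0) * hl + (1 + 1 * l ^ 4 + 1 * l ^ 5) * hp
  · linear_combination (1 + 2 * l + 2 * l ^ 2 + 1 * l ^ 3) * hl + (0) * hp
  · linear_combination (0) * hl + (0) * hp
  · linear_combination (0) * hl + (1 * l ^ 2) * hp
  · linear_combination (1) * hl + (1 * l + 1 * l ^ 2 + 1 * l ^ 4 + 1 * l ^ 5) * hp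

theorem step12 (l : F) (hl : l ^ 6 + l ^ 3 + 1 = 0) (hp : (2 : F) = 0) :
    w11 l * mV l = w12 l := by
  unfold w11 mV w12
  rw [mk_mul]
  apply mk_congr
  · linear_combination (1 * l) * hl + (2 * l ^ 2 + 2 * l ^ 3 + 1 * l ^ 4) * hp
  · linear_combination (1 + 2 * l) * hl + ((-1) + (-1) * l) * hp
  · linear_combination (1 + 1 * l + 1 * l ^ 2) * hl + ((-1)) * hp
  · linear_combination (1 + 1 * l + 1 * l ^ 2 + 1 * l ^ 3) * hl + (1 * l + 1 * l ^ 2 + 1 * l ^ 4 + 1 * l ^ 5) * hp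
  · linear_combination (1 * l + 1 * l ^ 2 + 1 * l ^ 3) * hl + ((-1) * l ^ 3) * hp
  · linear_combination (1 * l + 2 * l ^ 2 + 2 * l ^ 3 + 1 * l ^ 4) * hl + ((-1) * l ^ 3) * hp
  · linear_combination (2) * hl + (1 * l + 2 * l ^ 2 + 2 * l ^ 4 + 1 * l ^ 5) * hp
  · linear_combination (1) * hl + ((-1) + 1 * l + 1 * l ^ 4) * hp
  · linear_combination (1 + 1 * l) * hl + ((-1) + 1 * l ^ 4 + 1 * l ^ 5) * hp

theorem step13 (l : F) (hl : l ^ 6 + l ^ 3 + 1 = 0) (hp : (2 : F) = 0) :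
    w12 l * mV l = w13 l := by
  unfold w12 mV w13
  rw [mk_mul]
  apply mk_congr
  · linear_combination (1 * l + 1 * l ^ 3) * hl + (1 + 1 * l + 1 * l ^ 2 + 1 * l ^ 3 + 1 * l ^ 4 + 2 * l ^ 5) * hp
  · linear_combination (1 * l + 1 * l ^ 2 + 1 * l ^ 3) * hl + ((-1) * l ^ 3 + 1 * l ^ 4 + 1 * l ^ 5) * hp
  · linear_combination (1 + 1 * l + 2 * l ^ 2 + 1 * l ^ 3 + 1 * l ^ 4) * hl + ((-1) + 1 * l ^ 5) * hp
  · linear_combination (1 + 2 * l + 1 * l ^ 2 + 1 * l ^ 3) * hl + ((-1) * l + 1 * l ^ 3 + 2 * l ^ 4 + 2 * l ^ 5) * hp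
  · linear_combination (2 * l + 2 * l ^ 2 + 2 * l ^ 3) * hl + ((-1) * l + (-1) * l ^ 2 + (-1) * l ^ 3) * hp
  · linear_combination (1 + 2 * l + 3 * l ^ 2 + 2 * l ^ 3 + 1 * l ^ 4) * hl + ((-1) + (-1) * l + (-1) * l ^ 2 + (-1) * l ^ 3) * hp
  · linear_combination (1 + 1 * l) * hl + (1 + 1 * l + 2 * l ^ 2 + 1 * l ^ 3 + 1 * l ^ 4 + 1 * l ^ 5) * hp
  · linear_combination (0) * hl + (1 * l + 1 * l ^ 4) * hp
  · linear_combination (1) * hl + ((-1) + 1 * l + 1 * l ^ 2 + 1 * l ^ 4) * hp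

theorem bF_eq (l : F) (hl : l ^ 6 + l ^ 3 + 1 = 0) (hp : (2 : F) = 0) (hD : l ^ 2 - 1 ≠ 0) :
    bF l = 1 + 1 * l + 1 * l ^ 2 + 1 * l ^ 3 + 1 * l ^ 4 := by
  unfold bF
  rw [div_eq_iff (pow_ne_zero 3 hD)]
  linear_combination ((-1) + 3 * l + 2 * l ^ 2 + (-1) * l ^ 3 + (-1) * l ^ 4) * hl + (1 + (-1) * l + (-2) * l ^ 2 + (-1) * l ^ 3 + 1 * l ^ 4 + (-1) * l ^ 5) * hp

theorem sb_eq (l : F) (hl : l ^ 6 + l ^ 3 + 1 = 0) (hp : (2 : F) = 0) (hD : l ^ 2 - 1 ≠ 0) :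
    (2 * l ^ 3 - 3 * l ^ 2 + 1) / (l ^ 2 - 1) ^ 3 = 1 * l + 1 * l ^ 2 + 1 * l ^ 3 + 1 * l ^ 4 := by
  rw [div_eq_iff (pow_ne_zero 3 hD)]
  linear_combination (1 + 3 * l + 2 * l ^ 2 + (-1) * l ^ 3 + (-1) * l ^ 4) * hl + ((-1) * l + (-2) * l ^ 2 + (-2) * l ^ 4 + (-1) * l ^ 5) * hp

theorem l2i_eq (l : F) (hl : l ^ 6 + l ^ 3 + 1 = 0) (hp : (2 : F) = 0) :
    (l ^ 2)⁻¹ = 1 * l + 1 * l ^ 4 := by
  apply inv_eq_of_mul_eq_one_right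
  linear_combination (1) * hl + ((-1)) * hp

theorem r3_eq (l : F) (hl : l ^ 6 + l ^ 3 + 1 = 0) (hp : (2 : F) = 0) (hl0 : l ≠ 0) :
    (l ^ 2 - 1) ^ 3 / l ^ 2 = 1 + 1 * l + 1 * l ^ 2 := by
  rw [div_eq_iff (pow_ne_zero 2 hl0)]
  linear_combination (1) * hl + ((-1) + 1 * l ^ 2 + (-1) * l ^ 3 + (-2) * l ^ 4) * hp

theorem li_eq (l : F) (hl : l ^ 6 + l ^ 3 + 1 = 0) (hp : (2 : F) = 0) :
    l⁻¹ = 1 * l ^ 2 + 1 * l ^ 5 := by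
  apply inv_eq_of_mul_eq_one_right
  linear_combination (1) * hl + ((-1)) * hp

theorem mV_eq (l : F) (hl : l ^ 6 + l ^ 3 + 1 = 0) (hp : (2 : F) = 0) :
    (!![3 - l - (1 * l + 1 * l ^ 4), -(1 * l + 1 * l ^ 4), l * (1 * l + 1 * l ^ 2 + 1 * l ^ 3 + 1 * l ^ 4); -(1 + 1 * l + 1 * l ^ 2), (1 * l + 1 * l ^ 4), l; -(1 + 1 * l + 1 * l ^ 2), 0, l] : Matrix (Fin 3) (Fin 3) F) = mV l := by
  unfold mV
  apply mk_congr
  · linear_combination (0) * hl + (1 + (-1) * l + (-1) * l ^ 4) * hp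
  · linear_combination (0) * hl + ((-1) * l + (-1) * l ^ 4) * hp
  · linear_combination (0) * hl + (0) * hp
  · linear_combination (0) * hl + ((-1) + (-1) * l + (-1) * l ^ 2) * hp
  · linear_combination (0) * hl + (0) * hp
  · linear_combination (0) * hl + (0) * hp
  · linear_combination (0) * hl + ((-1) + (-1) * l + (-1) * l ^ 2) * hp
  · linear_combination (0) * hl + (0) * hp
  · linear_combination (0) * hl + (0) * hp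

theorem word_InJ {q : ℕ} {σ : F →+* F} {P : Matrix (Fin 3) (Fin 3) F} (hP : Pᵀ * P.map σ = Jm)
    {H : Subgroup ↥(Cfsg.SU 3 F q)} (l : F) (hl : l ^ 6 + l ^ 3 + 1 = 0) (hp : (2 : F) = 0)
    (hu : InJ σ P H (mU l)) (hv : InJ σ P H (mV l)) : InJ σ P H (w13 l) := by
  have hU : InJ σ P H (mUi l) := hu.of_mul_eq_one hP (mU_mul_mUi l hl hp)
  have hV : InJ σ P H (mVi l) := hv.of_mul_eq_one hP (mV_mul_mVi l hl hp)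
  have h1 : InJ σ P H (w1 l) := by
    rw [← step1 l hl hp]
    exact hV.mul hP hu
  have h2 : InJ σ P H (w2 l) := by
    rw [← step2 l hl hp]
    exact h1.mul hP hV
  have h3 : InJ σ P H (w3 l) := by
    rw [← step3 l hl hp]
    exact h2.mul hP hu
  have h4 : InJ σ P H (w4 l) := by
    rw [← step4 l hl hp]
    exact h3.mul hP hv
  have h5 : InJ σ P H (w5 l) := by
    rw [← step5 l hl hp]
    exact h4.mul hP hU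
  have h6 : InJ σ P H (w6 l) := by
    rw [← step6 l hl hp]
    exact h5.mul hP hv
  have h7 : InJ σ P H (w7 l) := by
    rw [← step7 l hl hp]
    exact h6.mul hP hu
  have h8 : InJ σ P H (w8 l) := by
    rw [← step8 l hl hp]
    exact h7.mul hP hV
  have h9 : InJ σ P H (w9 l) := by
    rw [← step9 l hl hp]
    exact h8.mul hP hu
  have h10 : InJ σ P H (w10 l) := by
    rw [← step10 l hl hp]
    exact h9.mul hP hv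
  have h11 : InJ σ P H (w11 l) := by
    rw [← step11 l hl hp]
    exact h10.mul hP hu
  have h12 : InJ σ P H (w12 l) := by
    rw [← step12 l hl hp]
    exact h11.mul hP hv
  have h13 : InJ σ P H (w13 l) := by
    rw [← step13 l hl hp]
    exact h12.mul hP hv
  exact h13

theorem word_isJU {σ : F →+* F} (l : F) (hl : l ^ 6 + l ^ 3 + 1 = 0) (hp : (2 : F) = 0)
    (hu : IsJU σ (mU l)) (hv : IsJU σ (mV l)) : IsJU σ (w13 l) := by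
  have hU : IsJU σ (mUi l) := hu.of_mul_eq_one σ (mU_mul_mUi l hl hp)
  have hV : IsJU σ (mVi l) := hv.of_mul_eq_one σ (mV_mul_mVi l hl hp)
  have h1 : IsJU σ (w1 l) := by
    rw [← step1 l hl hp]
    exact hV.mul σ hu
  have h2 : IsJU σ (w2 l) := by
    rw [← step2 l hl hp]
    exact h1.mul σ hV
  have h3 : IsJU σ (w3 l) := by
    rw [← step3 l hl hp]
    exact h2.mul σ hu
  have h4 : IsJU σ (w4 l) := by
    rw [← step4 l hl hp]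
    exact h3.mul σ hv
  have h5 : IsJU σ (w5 l) := by
    rw [← step5 l hl hp]
    exact h4.mul σ hU
  have h6 : IsJU σ (w6 l) := by
    rw [← step6 l hl hp]
    exact h5.mul σ hv
  have h7 : IsJU σ (w7 l) := by
    rw [← step7 l hl hp]
    exact h6.mul σ hu
  have h8 : IsJU σ (w8 l) := by
    rw [← step8 l hl hp]
    exact h7.mul σ hV
  have h9 : IsJU σ (w9 l) := by
    rw [← step9 l hl hp]
    exact h8.mul σ hu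
  have h10 : IsJU σ (w10 l) := by
    rw [← step10 l hl hp]
    exact h9.mul σ hv
  have h11 : IsJU σ (w11 l) := by
    rw [← step11 l hl hp]
    exact h10.mul σ hu
  have h12 : IsJU σ (w12 l) := by
    rw [← step12 l hl hp]
    exact h11.mul σ hv
  have h13 : IsJU σ (w13 l) := by
    rw [← step13 l hl hp]
    exact h12.mul σ hv
  exact h13

theorem sig_X11 {σ : F →+* F} (l : F) (hl : l ^ 6 + l ^ 3 + 1 = 0) (hp : (2 : F) = 0) (hσl : σ l = l⁻¹) :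
    σ (1 * l + 1 * l ^ 4) = 1 * l ^ 2 := by
  rw [li_eq l hl hp] at hσl
  simp only [map_add, map_mul, map_pow, map_ofNat, map_one, hσl]
  linear_combination ((-1) * l ^ 5 + 2 * l ^ 8 + 3 * l ^ 11 + 1 * l ^ 14) * hl + (1 * l ^ 5) * hp

theorem c_eq (l : F) (hl : l ^ 6 + l ^ 3 + 1 = 0) (hp : (2 : F) = 0) :
    (1 + 1 * l + 1 * l ^ 2) * (1 * l ^ 2) = 1 * l ^ 2 + 1 * l ^ 3 + 1 * l ^ 4 := by
  linear_combination (0) * hl + (0) * hp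

theorem c4_eq (l : F) (hl : l ^ 6 + l ^ 3 + 1 = 0) (hp : (2 : F) = 0) :
    (1 * l ^ 2 + 1 * l ^ 3 + 1 * l ^ 4) ^ 4 = (1 * l ^ 2 + 1 * l ^ 3 + 1 * l ^ 4) + (1 * l + 1 * l ^ 5) := by
  linear_combination ((-9) * l + (-15) * l ^ 2 + (-15) * l ^ 3 + (-6) * l ^ 4 + 6 * l ^ 5 + 15 * l ^ 6 + 15 * l ^ 7 + 10 * l ^ 8 + 4 * l ^ 9 + 1 * l ^ 10) * hl + (4 * l + 7 * l ^ 2 + 7 * l ^ 3 + 7 * l ^ 4 + 4 * l ^ 5) * hp

end gen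

end Cfsg.Agent.Lib.helper15.SU3G.E8
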