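import Mathlib
import Cfsg.Agent.Lib.helper15.SU3G.G5

set_option autoImplicit false

namespace Cfsg.Agent.Lib.helper15.SU3G

open Matrix

section five
variable {F : Type*} [Field F] [Fintype F]

theorem five_eq_zero (hF : Fintype.card F = 5 ^ 2) : (5 : F) = 0 := by
  have h := FiniteField.cast_card_eq_zero F
  rw [hF] at h
  have h2 : (5 : F) ^ 2 = 0 := by
    push_cast at h
    rw [← h]
    norm_num
  exact pow_eq_zero_iff (by norm_num) |>.mp h2

omit [Fintype F] in
theorem rel_five {l : F} (hl : orderOf l = 5 + 1) : l ^ 2 - l + 1 = 0 := by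
  have h6 : l ^ 6 = 1 := by
    have := pow_orderOf_eq_one l
    rwa [hl] at this
  have h3 : l ^ 3 ≠ 1 := by
    intro h
    have := orderOf_dvd_of_pow_eq_one h
    rw [hl] at this
    norm_num at this
  have h2 : l ^ 2 ≠ 1 := by
    intro h
    have := orderOf_dvd_of_pow_eq_one h
    rw [hl] at this
    norm_num at this
  have hprod : (l ^ 2 - 1) * ((l ^ 2 + l + 1) * (l ^ 2 - l + 1)) = 0 := by
    linear_combination h6
  rcases mul_eq_zero.mp hprod with h | h
  · exact absurd (by linear_combination h) h2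
  · rcases mul_eq_zero.mp h with h' | h'
    · exfalso
      apply h3
      linear_combination (l - 1) * h'
    · exact h'

theorem stab_five (hF : Fintype.card F = 5 ^ 2) {σ : F →+* F} (hσ : ∀ x, σ x = x ^ 5)
    (hσσ : ∀ x, σ (σ x) = x) {l : F} (hl : orderOf l = 5 + 1)
    {P : Matrix (Fin 3) (Fin 3) F} (hP : Pᵀ * P.map σ = Jm)
    (H : Subgroup ↥(Cfsg.SU 3 F 5)) (hHu : InJ σ P H (uF σ l)) (hHv : InJ σ P H (vF σ l)) :
    Cfsg.Agent.Lib.helper15.RU.stabRing (Aset σ hσσ P hP H) = ⊤ := by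
  obtain ⟨hl0, hD, hσl⟩ := lam_facts (q := 5) (by norm_num) hσ hl
  have hp := five_eq_zero hF
  have hm := rel_five hl
  have huF : uF σ l = E5.mU l := by
    unfold uF uJ E5.mU
    rw [E5.bF_eq l hm hp hD, map_one]
    apply mk_congr
    all_goals first | rfl | (linear_combination (-1 : F) * hp)
  have hvF : vF σ l = E5.mV l := by
    rw [vF_eq hl0 hD hσl, E5.l2i_eq l hm hp, E5.sb_eq l hm hp hD, E5.r3_eq l hm hp hl0]
    exact E5.mV_eq l hm hp
  have hu : IsJU σ (uF σ l) := uJ_isJU σ hσσ 1 _ (val_bF hl0 hD hσl)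
  have hv : IsJU σ (vF σ l) := vF_isJU hσσ hl0 hD hσl
  rw [huF] at hHu hu
  rw [hvF] at hHv hv
  have hX := E5.word_InJ hP l hm hp hHu hHv
  have hXJ := E5.word_isJU l hm hp hu hv
  have h4 := stab_of_upper hσσ P hP H hXJ hX (by simp [E5.w7]) (by simp [E5.w7])
  have h5 : E5.w7 l 0 0 * σ (E5.w7 l 1 1) = (3 + 4 * l) * 4 := by
    have h44 : σ (4 : F) = 4 := map_ofNat σ 4
    simp [E5.w7, h44]
  rw [h5] at h4
  have hl' : l ∈ Cfsg.Agent.Lib.helper15.RU.stabRing (Aset σ hσσ P hP H) := by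
    have h12 : (12 : F) ∈ Cfsg.Agent.Lib.helper15.RU.stabRing (Aset σ hσσ P hP H) := by
      exact ofNat_mem _ 12
    have : l = (3 + 4 * l) * 4 - 12 := by linear_combination (-3 * l) * hp
    rw [this]
    exact Subring.sub_mem _ h4 h12
  apply stab_top_five (by rw [hF]; norm_num) _ l hl'
  intro h
  apply hD
  have h' : l⁻¹ = l := by
    rw [← hσl, hσ]
    exact h
  have : l * l⁻¹ = 1 := mul_inv_cancel₀ hl0
  rw [h'] at this
  linear_combination this

end five

end Cfsg.Agent.Lib.helper15.SU3G
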