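import Mathlib
import Cfsg.Agent.Lib.helper15.SU3G.G8

set_option autoImplicit false

namespace Cfsg.Agent.Lib.helper15.SU3G

open Matrix

section eight
variable {F : Type*} [Field F] [Fintype F]

theorem two_eq_zero (hF : Fintype.card F = 8 ^ 2) : (2 : F) = 0 := by
  have h := FiniteField.cast_card_eq_zero F
  rw [hF] at h
  have h2 : (2 : F) ^ 6 = 0 := by
    push_cast at h
    rw [← h]
    norm_num
  exact pow_eq_zero_iff (by norm_num) |>.mp h2

omit [Fintype F] in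
theorem rel_eight {l : F} (hl : orderOf l = 8 + 1) : l ^ 6 + l ^ 3 + 1 = 0 := by
  have h9 : l ^ 9 = 1 := by
    have := pow_orderOf_eq_one l
    rwa [hl] at this
  have h3 : l ^ 3 ≠ 1 := by
    intro h
    have := orderOf_dvd_of_pow_eq_one h
    rw [hl] at this
    norm_num at this
  have hprod : (l ^ 3 - 1) * (l ^ 6 + l ^ 3 + 1) = 0 := by
    linear_combination h9
  rcases mul_eq_zero.mp hprod with h | h
  · exact absurd (by linear_combination h) h3
  · exact h

theorem stab_eight (hF : Fintype.card F = 8 ^ 2) {σ : F →+* F} (hσ : ∀ x, σ x = x ^ 8)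
    (hσσ : ∀ x, σ (σ x) = x) {l : F} (hl : orderOf l = 8 + 1)
    {P : Matrix (Fin 3) (Fin 3) F} (hP : Pᵀ * P.map σ = Jm)
    (H : Subgroup ↥(Cfsg.SU 3 F 8)) (hHu : InJ σ P H (uF σ l)) (hHv : InJ σ P H (vF σ l)) :
    Cfsg.Agent.Lib.helper15.RU.stabRing (Aset σ hσσ P hP H) = ⊤ := by
  obtain ⟨hl0, hD, hσl⟩ := lam_facts (q := 8) (by norm_num) hσ hl
  have hp := two_eq_zero hF
  have hm := rel_eight hl
  have hω := cube_mem_stab hF hσσ hl0 hD hσl hP H hHu hHv
  have huF : uF σ l = E8.mU l := by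
    unfold uF uJ E8.mU
    rw [E8.bF_eq l hm hp hD, map_one]
    apply mk_congr
    all_goals first | rfl | (linear_combination (-1 : F) * hp)
  have hvF : vF σ l = E8.mV l := by
    rw [vF_eq hl0 hD hσl, E8.l2i_eq l hm hp, E8.sb_eq l hm hp hD, E8.r3_eq l hm hp hl0]
    exact E8.mV_eq l hm hp
  have hu : IsJU σ (uF σ l) := uJ_isJU σ hσσ 1 _ (val_bF hl0 hD hσl)
  have hv : IsJU σ (vF σ l) := vF_isJU hσσ hl0 hD hσl
  rw [huF] at hHu hu
  rw [hvF] at hHv hv
  have hX := E8.word_InJ hP l hm hp hHu hHv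
  have hXJ := E8.word_isJU l hm hp hu hv
  have h4 := stab_of_upper hσσ P hP H hXJ hX (by simp [E8.w13]) (by simp [E8.w13])
  have hx00 : E8.w13 l 0 0 = 1 + 1 * l + 1 * l ^ 2 := rfl
  have hx11 : E8.w13 l 1 1 = 1 * l + 1 * l ^ 4 := rfl
  rw [hx00, hx11, E8.sig_X11 l hm hp hσl, E8.c_eq l hm hp] at h4
  apply stab_top_eight (by rw [hF]; norm_num) _ (l ^ 3) _ hω ?_ ?_ h4 ?_
  · intro h
    have : (1 : F) = 0 := by linear_combination hm - (l ^ 3 + 2) * h - hp
    exact one_ne_zero this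
  · linear_combination (l ^ 3 - 1) * hm
  · intro h
    rw [E8.c4_eq l hm hp] at h
    have h1 : l * (1 + l ^ 4) = 0 := by linear_combination h
    have h2 : 1 + l ^ 4 = 0 := (mul_eq_zero.mp h1).resolve_left hl0
    have h3 : (l ^ 2 - 1) ^ 2 = 0 := by linear_combination h2 - l ^ 2 * hp
    exact hD ((pow_eq_zero_iff (by norm_num)).mp h3)

end eight

end Cfsg.Agent.Lib.helper15.SU3G
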